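import Cfsg.Agent.H975.VanE.Tools
import Cfsg.Agent.H53.HC.ExcIM

/-!
# Commuting subgroups of type `A₂`, `A₁` in groups with typed root group data (helper975, rows of S4987)

* `kill_of_data` : the Steinberg character;
* `A2 D a b` : the homomorphism of `SL₃` for two adjacent nodes;
* `twoVan_A2_A2` : two orthogonal pairs of adjacent nodes.
-/

set_option autoImplicit false
set_option linter.unusedSectionVars false

open Matrix

namespace Cfsg.Agent.H975.VanE

open Cfsg Cfsg.Agent.H387.VO Cfsg.Agent.H620 Cfsg.Agent.H720.PV Cfsg.Agent.H53.HC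
open CoxeterSystem Cfsg.Agent.ChevalleyStructure.CoxeterGeom Cfsg.Agent.Tits.Roots Cfsg.Agent.Tits.Core
  Cfsg.Agent.Nodes.Reps Cfsg.Agent.Nodes.BNOf Cfsg.Agent.Nodes.StabComb Cfsg.Agent.H35.ExcIdx
open Cfsg.Agent.LieRecognition.BNCox (cA)
open Cfsg.Agent.H622.Levi (Co exists_co exists_chain cr)

/-- the characteristic of a field with `r ^ e` elements -/
theorem charP_of_card {F : Type*} [Field F] [Fintype F] {r e : ℕ} (hr : r.Prime)
    (h : Fintype.card F = r ^ e) : CharP F r := by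
  obtain ⟨p, hp⟩ := CharP.exists F
  obtain ⟨n, hpp, hn⟩ := FiniteField.card F p
  have h1 : p ∣ r ^ e := by rw [← h, hn]; exact dvd_pow_self p n.ne_zero
  rw [← (Nat.prime_dvd_prime_iff_eq hpp hr).1 (hpp.dvd_of_dvd_pow h1)]
  exact hp

variable {r q l : ℕ} {M : CoxeterMatrix (Fin l)} {A : Fin l → Fin l → ℤ} {h : IsCartan M A} {f : Fin l → ℕ}
  {S : Type*} [Group S] {T : Subgroup S} {n : Fin l → S} {X : (Fin l → ℤ) → Subgroup S}

/-- the Steinberg character -/
theorem kill_of_data [Finite S] [IsSimpleGroup S] (hr : r.Prime) (hl : 0 < l) {J : Set (Fin l)}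
    (D : ExcData r q h f J T n X) : Kill S r := by
  have : Fact r.Prime := ⟨hr⟩
  have := D.fin
  have : Nonempty (Fin l) := ⟨⟨0, hl⟩⟩
  have hsplit : FixBN.HasSplit r S := FixBN.SplitRGD.hasSplit_of_rgd_top hr D.rgd (by
    have h1 := D.g1
    unfold Nodes.RGDLib.G1 RGD.Sup at h1
    exact h1)
  obtain ⟨χ, hχ, h1⟩ := Cfsg.Agent.H163.Steinberg.exists_irr_of_hasSplit hsplit
  have P : Sylow r S := default
  refine kill_of_dvd r hχ (Nat.card P) (h1 P).1 ?_
  rw [P.card_eq_multiplicity]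

/-- **The homomorphism of `SL₃` for two adjacent nodes.** -/
theorem exists_A2 [Finite S] {J : Set (Fin l)} (D : ExcData r q h f J T n X) {a b : Fin l} (hab : M a b = 3) :
    ∃ (F : Type) (_ : Field F) (_ : Fintype F) (φ : SpecialLinearGroup (Fin 3) F →* S) (k : Fin 2 ↪ Fin l),
      k 0 = a ∧ k 1 = b ∧ Co X k F φ ∧ φ.ker ≤ Subgroup.center (SpecialLinearGroup (Fin 3) F) ∧
        Fintype.card F = f a ∧ ∀ x, φ x ∈ MJ M.toCoxeterSystem h X {a, b} := by
  have := D.fin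
  obtain ⟨k, rfl, rfl, hK, hk⟩ := exists_chain hab
  obtain ⟨F, i1, i2, φ, C⟩ := exists_co D.rgd le_rfl k hk
  refine ⟨F, i1, i2, φ, k, rfl, rfl, C, C.ker, ?_, fun x => ?_⟩
  · rw [← Nat.card_eq_fintype_card, ← C.card 0, D.size]
  · rw [← hK]
    have h1 := C.range (cs := M.toCoxeterSystem) (h := h) hk (by norm_num)
    have h2 : φ x ∈ φ.range := ⟨x, rfl⟩
    rw [h1] at h2
    exact h2

/-- **The homomorphism of `SL₂` for a node with a simply joined neighbour.** -/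
theorem exists_A1 [Finite S] {J : Set (Fin l)} (D : ExcData r q h f J T n X) {a b : Fin l} (hab : M a b = 3) :
    ∃ (F : Type) (_ : Field F) (_ : Fintype F) (φ : SpecialLinearGroup (Fin 2) F →* S),
      φ.ker ≤ Subgroup.center (SpecialLinearGroup (Fin 2) F) ∧
        Fintype.card F = f a ∧ ∀ x, φ x ∈ MJ M.toCoxeterSystem h X {a} := by
  have := D.fin
  obtain ⟨F, i1, i2, φ, C⟩ := Cfsg.Agent.H622.Levi.exists_co_one D.rgd a b hab
  let k : Fin 1 ↪ Fin l := ⟨fun _ => a, fun _ _ _ => Subsingleton.elim _ _⟩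
  have hk : Set.range k = {a} := by
    ext x
    constructor
    · rintro ⟨_, rfl⟩; rfl
    · rintro rfl; exact ⟨0, rfl⟩
  have C' : Co X k F φ := C
  refine ⟨F, i1, i2, φ, C.ker, ?_, fun x => ?_⟩
  · rw [← Nat.card_eq_fintype_card, ← C'.card 0, D.size]
    rfl
  · rw [← hk]
    have h1 := C'.range (cs := M.toCoxeterSystem) (h := h) (by
      intro a b
      rw [Subsingleton.elim a b, M.diagonal, CoxeterMatrix.diagonal]) (by norm_num)
    have h2 : φ x ∈ φ.range := ⟨x, rfl⟩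
    rw [h1] at h2
    exact h2

/-- **Two orthogonal pairs of adjacent nodes.** -/
theorem twoVan_A2_A2 [Finite S] [IsSimpleGroup S] (hr : r.Prime) (hl : 0 < l) {J : Set (Fin l)}
    (D : ExcData r q h f J T n X) {a b c d : Fin l} (hab : M a b = 3) (hcd : M c d = 3)
    (ho : ∀ i ∈ ({a, b} : Set (Fin l)), ∀ j ∈ ({c, d} : Set (Fin l)), M i j = 2) {e : ℕ}
    (hf : f c = r ^ e) {p : ℕ} (hp : p.Prime) (h5 : 5 ≤ p) (hpr : p ≠ r)
    (hd : p ∣ f a ^ 2 - 1 ∨ p ∣ f a ^ 3 - 1) : TwoVan p S := by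
  have := D.fin
  have : Fact r.Prime := ⟨hr⟩
  obtain ⟨F, _, _, φ, k, -, -, -, hker, hF, hφ⟩ := exists_A2 D hab
  obtain ⟨F', _, _, φ', k', -, -, -, hker', hF', hφ'⟩ := exists_A2 D hcd
  have := charP_of_card hr (hF'.trans hf)
  obtain ⟨x, hx⟩ := exists_sl3 hF hp h5 hd hker
  obtain ⟨y, z, hy, hz⟩ := exists_two (r := r) hker'
  have hc := (orth_of h ho).comm D.rgd
  exact twoVan_of_pair hr hp h5 hpr (kill_of_data hr hl D) hx hy hz (hc _ (hφ x) _ (hφ' y)) (hc _ (hφ x) _ (hφ' z))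

/-- **A node and a pair of adjacent nodes.** -/
theorem twoVan_A1_A2 [Finite S] [IsSimpleGroup S] (hr : r.Prime) (hl : 0 < l) {J : Set (Fin l)}
    (D : ExcData r q h f J T n X) {a b c d : Fin l} (hab : M a b = 3) (hcd : M c d = 3)
    (ho : ∀ i ∈ ({a} : Set (Fin l)), ∀ j ∈ ({c, d} : Set (Fin l)), M i j = 2) {e : ℕ}
    (hf : f c = r ^ e) {p : ℕ} (hp : p.Prime) (h5 : 5 ≤ p) (hpr : p ≠ r)
    (hd : p ∣ f a ^ 2 - 1) : TwoVan p S := by
  have := D.fin
  have : Fact r.Prime := ⟨hr⟩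
  obtain ⟨F, _, _, φ, hker, hF, hφ⟩ := exists_A1 D hab
  obtain ⟨F', _, _, φ', k', -, -, -, hker', hF', hφ'⟩ := exists_A2 D hcd
  have := charP_of_card hr (hF'.trans hf)
  obtain ⟨x, hx⟩ := exists_sl2 hF hp h5 hd hker
  obtain ⟨y, z, hy, hz⟩ := exists_two (r := r) hker'
  have hc := (orth_of h ho).comm D.rgd
  exact twoVan_of_pair hr hp h5 hpr (kill_of_data hr hl D) hx hy hz (hc _ (hφ x) _ (hφ' y)) (hc _ (hφ x) _ (hφ' z))

end Cfsg.Agent.H975.VanE
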