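import Cfsg.Agent.H975.VanE.Deg
import Cfsg.Agent.H975.VanE.Pair
import Cfsg.Agent.H366.IsoE6
import Cfsg.Agent.H299.UF.E6
import Cfsg.Agent.H77.E4Tor

/-!
# The row of `E₆(q)` (helper975, S4987)
-/

set_option autoImplicit false

namespace Cfsg.Agent.H975.VanE

open Cfsg Cfsg.Agent.H387.VO Cfsg.Agent.H620 Cfsg.Agent.H720.PV Cfsg.Agent.H35.ExcIdx

/-! ### arithmetic -/

theorem dvd_gcd_pow {p q a b : ℕ} (h1 : p ∣ q ^ a - 1) (h2 : p ∣ q ^ b - 1) : p ∣ q ^ Nat.gcd a b - 1 := by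
  rw [← Nat.pow_sub_one_gcd_pow_sub_one]
  exact Nat.dvd_gcd h1 h2

/-- if only one factor of a product is divisible by `p` then it contains the `p`-part -/
theorem sq_dvd_of_mul {p a b : ℕ} (hp : p.Prime) (h : p ^ 2 ∣ a * b) (ha : ¬ p ∣ a) : p ^ 2 ∣ b :=
  (Nat.Coprime.pow_left 2 ((Nat.Prime.coprime_iff_not_dvd hp).2 ha)).dvd_of_dvd_mul_left h

theorem sq_dvd_of_mul' {p a b : ℕ} (hp : p.Prime) (h : p ^ 2 ∣ a * b) (hb : ¬ p ∣ b) : p ^ 2 ∣ a :=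
  (Nat.Coprime.pow_left 2 ((Nat.Prime.coprime_iff_not_dvd hp).2 hb)).dvd_of_dvd_mul_right h

/-- four factors, pairwise not both divisible by `p` -/
theorem sq_dvd_four {p a b c d : ℕ} (hp : p.Prime) (h : p ^ 2 ∣ a * b * c * d) (hab : ¬ (p ∣ a ∧ p ∣ b))
    (hac : ¬ (p ∣ a ∧ p ∣ c)) (had : ¬ (p ∣ a ∧ p ∣ d)) (hbc : ¬ (p ∣ b ∧ p ∣ c)) (hbd : ¬ (p ∣ b ∧ p ∣ d))
    (hcd : ¬ (p ∣ c ∧ p ∣ d)) : p ^ 2 ∣ a ∨ p ^ 2 ∣ b ∨ p ^ 2 ∣ c ∨ p ^ 2 ∣ d := by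
  by_cases h4 : p ∣ d
  · right; right; right
    refine sq_dvd_of_mul hp h ?_
    rw [hp.dvd_mul, hp.dvd_mul]
    tauto
  · have h := sq_dvd_of_mul' hp h h4
    by_cases h3 : p ∣ c
    · right; right; left
      refine sq_dvd_of_mul hp h ?_
      rw [hp.dvd_mul]
      tauto
    · have h := sq_dvd_of_mul' hp h h3
      by_cases h2 : p ∣ b
      · right; left
        exact sq_dvd_of_mul hp h (by tauto)
      · exact Or.inl (sq_dvd_of_mul' hp h h2)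

/-- quotients by `gcd(3, -)` -/
theorem sq_dvd_div {p n g : ℕ} (hp : p.Prime) (h : p ^ 2 ∣ n) (hg : g ∣ n) (hpg : ¬ p ∣ g) : p ^ 2 ∣ n / g := by
  obtain ⟨m, rfl⟩ := hg
  rcases Nat.eq_zero_or_pos g with rfl | hg0
  · exact absurd (dvd_zero p) hpg
  · rw [Nat.mul_div_cancel_left _ hg0]
    exact sq_dvd_of_mul hp h hpg

theorem dvd_div' {p n g : ℕ} (hp : p.Prime) (h : p ∣ n) (hg : g ∣ n) (hpg : ¬ p ∣ g) : p ∣ n / g := by
  obtain ⟨m, rfl⟩ := hg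
  rcases Nat.eq_zero_or_pos g with rfl | hg0
  · exact absurd (dvd_zero p) hpg
  · rw [Nat.mul_div_cancel_left _ hg0]
    exact (hp.dvd_mul.1 h).resolve_left hpg

theorem not_dvd_gcd_three {p m : ℕ} (h5 : 5 ≤ p) : ¬ p ∣ Nat.gcd 3 m := fun h => by
  have := Nat.le_of_dvd (by norm_num) (h.trans (Nat.gcd_dvd_left 3 m))
  omega

/-- from `p² ∣ orderOf x` -/
theorem twoVan_of_sq_dvd {S : Type*} [Group S] [Finite S] {p : ℕ} [hp : Fact p.Prime] (h : H665.NoPQ.HasDZ p S)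
    {x : S} (hx : p ^ 2 ∣ orderOf x) : TwoVan p S := by
  refine twoVan_of_hasDZ_orderOf h (x := x) ((dvd_pow_self p two_ne_zero).trans hx) ?_
  intro h1
  rw [h1] at hx
  have h2 := Nat.le_of_dvd hp.out.pos hx
  have := hp.out.two_le
  nlinarith

/-- the first alternative of `Row` -/
theorem row_of_sq {S : Type*} [Group S] [Finite S] {p : ℕ} [hp : Fact p.Prime] (hd : p ∣ Nat.card S)
    (h : p ^ 2 ∣ Nat.card S → TwoVan p S) : H387.VO.Row p S := by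
  by_cases h1 : (Nat.card S).factorization p = 1
  · exact Or.inl h1
  · right; right
    apply h
    have h2 : 1 ≤ (Nat.card S).factorization p := hp.out.factorization_pos_of_dvd Nat.card_pos.ne' hd
    exact (hp.out.pow_dvd_iff_le_factorization Nat.card_pos.ne').2 (by omega)

/-- cyclotomic factors -/
theorem fac_E6 {q : ℕ} (hq : 2 ≤ q) :
    (q ^ 2 - 1) * (q ^ 5 - 1) * (q ^ 6 - 1) * (q ^ 8 - 1) * (q ^ 9 - 1) * (q ^ 12 - 1) =
      ((q ^ 2 - 1) * (q - 1) * (q ^ 3 - 1) * (q + 1) * (q ^ 2 - q + 1) * (q ^ 2 - 1) * (q ^ 2 + 1) * (q ^ 3 - 1) *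
        (q ^ 3 - 1) * (q + 1) * (q ^ 2 - q + 1) * (q ^ 2 + 1)) *
      ((q ^ 4 + q ^ 3 + q ^ 2 + q + 1) * (q ^ 4 + 1) * (q ^ 6 + q ^ 3 + 1) * (q ^ 4 - q ^ 2 + 1)) := by
  have h1 : 1 ≤ q := by omega
  have h2 : 1 ≤ q ^ 2 := Nat.one_le_pow _ _ (by omega)
  have h3 : 1 ≤ q ^ 3 := Nat.one_le_pow _ _ (by omega)
  have h5 : 1 ≤ q ^ 5 := Nat.one_le_pow _ _ (by omega)
  have h6 : 1 ≤ q ^ 6 := Nat.one_le_pow _ _ (by omega)
  have h8 : 1 ≤ q ^ 8 := Nat.one_le_pow _ _ (by omega)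
  have h9 : 1 ≤ q ^ 9 := Nat.one_le_pow _ _ (by omega)
  have h12 : 1 ≤ q ^ 12 := Nat.one_le_pow _ _ (by omega)
  have h24 : q ^ 2 ≤ q ^ 4 := Nat.pow_le_pow_right (by omega) (by norm_num)
  have h21 : q ≤ q ^ 2 := Nat.le_self_pow (by norm_num) _
  zify [h1, h2, h3, h5, h6, h8, h9, h12, h24, h21]
  ring

theorem dvd5 {p q : ℕ} (hq : 2 ≤ q) (h : p ∣ q ^ 4 + q ^ 3 + q ^ 2 + q + 1) : p ∣ q ^ 5 - 1 := by
  have e : q ^ 5 - 1 = (q ^ 4 + q ^ 3 + q ^ 2 + q + 1) * (q - 1) := by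
    have h1 : 1 ≤ q := by omega
    have h5 : 1 ≤ q ^ 5 := Nat.one_le_pow _ _ (by omega)
    zify [h1, h5]; ring
  rw [e]; exact h.mul_right _

theorem dvd8 {p q : ℕ} (hq : 2 ≤ q) (h : p ∣ q ^ 4 + 1) : p ∣ q ^ 8 - 1 := by
  have e : q ^ 8 - 1 = (q ^ 4 + 1) * (q ^ 4 - 1) := by
    have h1 : 1 ≤ q ^ 4 := Nat.one_le_pow _ _ (by omega)
    have h5 : 1 ≤ q ^ 8 := Nat.one_le_pow _ _ (by omega)
    zify [h1, h5]; ring
  rw [e]; exact h.mul_right _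

theorem dvd9 {p q : ℕ} (hq : 2 ≤ q) (h : p ∣ q ^ 6 + q ^ 3 + 1) : p ∣ q ^ 9 - 1 := by
  have e : q ^ 9 - 1 = (q ^ 6 + q ^ 3 + 1) * (q ^ 3 - 1) := by
    have h1 : 1 ≤ q ^ 3 := Nat.one_le_pow _ _ (by omega)
    have h5 : 1 ≤ q ^ 9 := Nat.one_le_pow _ _ (by omega)
    zify [h1, h5]; ring
  rw [e]; exact h.mul_right _

theorem dvd12 {p q : ℕ} (hq : 2 ≤ q) (h : p ∣ q ^ 4 - q ^ 2 + 1) : p ∣ q ^ 12 - 1 := by
  have e : q ^ 12 - 1 = (q ^ 4 - q ^ 2 + 1) * ((q ^ 2 + 1) * (q ^ 6 - 1)) := by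
    have h1 : 1 ≤ q ^ 6 := Nat.one_le_pow _ _ (by omega)
    have h5 : 1 ≤ q ^ 12 := Nat.one_le_pow _ _ (by omega)
    have h24 : q ^ 2 ≤ q ^ 4 := Nat.pow_le_pow_right (by omega) (by norm_num)
    zify [h1, h5, h24]; ring
  rw [e]; exact h.mul_right _

theorem g_dvd9 {q : ℕ} (hq : 2 ≤ q) : Nat.gcd 3 (q - 1) ∣ q ^ 6 + q ^ 3 + 1 := by
  rcases (Nat.dvd_prime Nat.prime_three).1 (Nat.gcd_dvd_left 3 (q - 1)) with h1 | h1
  · rw [h1]; exact one_dvd _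
  · rw [h1]
    have h2 : 3 ∣ q - 1 := by rw [← h1]; exact Nat.gcd_dvd_right _ _
    obtain ⟨k, hk⟩ := h2
    have e : q = 3 * k + 1 := by omega
    rw [e]
    exact ⟨((3 * k + 1) ^ 6 + (3 * k + 1) ^ 3 + 1) / 3, by
      have : ((3 * k + 1) ^ 6 + (3 * k + 1) ^ 3 + 1) % 3 = 0 := by
        simp [Nat.add_mod, Nat.pow_mod]
      omega⟩

theorem g_dvd3 {q : ℕ} (hq : 2 ≤ q) : Nat.gcd 3 (q - 1) ∣ q ^ 2 + q + 1 := by
  rcases (Nat.dvd_prime Nat.prime_three).1 (Nat.gcd_dvd_left 3 (q - 1)) with h1 | h1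
  · rw [h1]; exact one_dvd _
  · rw [h1]
    have h2 : 3 ∣ q - 1 := by rw [← h1]; exact Nat.gcd_dvd_right _ _
    obtain ⟨k, hk⟩ := h2
    have e : q = 3 * k + 1 := by omega
    rw [e]
    exact ⟨3 * k ^ 2 + 3 * k + 1, by ring⟩

/-! ### the row -/

open Cfsg.Lie

/-- the prime `p ∣ q² + 1` or `p ∣ q² - q + 1` -/
theorem elt_46 {F : Type} [Field F] [Fintype F] {q p : ℕ} (hF : Fintype.card F = q) (hp : p.Prime) (h5 : 5 ≤ p)
    (h : p ∣ q ^ 2 + 1 ∨ p ∣ q ^ 2 - q + 1) : ∃ x : ↥(chevE6.group F), p ∣ orderOf x ∧ orderOf x ≠ p := by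
  have hq : 2 ≤ q := by rw [← hF]; exact Fintype.one_lt_card
  obtain ⟨x, hx⟩ := Cfsg.Agent.H77.E4Tor.tor_E6 F
  rw [Nat.card_eq_fintype_card, hF] at hx
  have h1 : 1 ≤ q := by omega
  have h21 : q ≤ q ^ 2 := Nat.le_self_pow (by norm_num) _
  have e4 : q ^ 4 - 1 = (q ^ 2 - 1) * (q ^ 2 + 1) := by
    have h2 : 1 ≤ q ^ 2 := Nat.one_le_pow _ _ (by omega)
    have h4 : 1 ≤ q ^ 4 := Nat.one_le_pow _ _ (by omega)
    zify [h2, h4]; ring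
  have hd : p ∣ (q ^ 4 - 1) * (q ^ 2 - q + 1) := by
    rcases h with h | h
    · rw [e4]; exact Dvd.dvd.mul_right (Dvd.dvd.mul_left h _) _
    · exact Dvd.dvd.mul_left h _
  have hp3 : ¬ p ∣ 3 := fun h => by have := Nat.le_of_dvd (by norm_num) h; omega
  refine ⟨x, (hp.dvd_mul.1 (hd.trans hx)).resolve_right hp3, fun ho => ?_⟩
  rw [ho] at hx
  have hle := Nat.le_of_dvd (by have := hp.pos; omega) hx
  have q2 : 4 ≤ q ^ 2 := by nlinarith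
  have q4 : 16 ≤ q ^ 4 := by
    have : q ^ 4 = q ^ 2 * q ^ 2 := by ring
    nlinarith
  rcases h with h | h
  · have hp1 := Nat.le_of_dvd (by omega) h
    rw [e4] at hle
    have h6 : (q ^ 2 + 1) * ((q ^ 2 - 1) * (q ^ 2 - q + 1)) ≤ (q ^ 2 + 1) * 3 := by
      calc (q ^ 2 + 1) * ((q ^ 2 - 1) * (q ^ 2 - q + 1)) = (q ^ 2 - 1) * (q ^ 2 + 1) * (q ^ 2 - q + 1) := by ring
        _ ≤ p * 3 := hle
        _ ≤ _ := Nat.mul_le_mul_right _ hp1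
    have h7 := Nat.le_of_mul_le_mul_left h6 (by omega)
    have h8 : 3 ≤ q ^ 2 - 1 := by omega
    have h9 : 3 ≤ q ^ 2 - q + 1 := by
      have : 2 * q ≤ q ^ 2 := by nlinarith
      omega
    have := Nat.mul_le_mul h8 h9
    omega
  · have hp1 := Nat.le_of_dvd (by omega) h
    have h6 : (q ^ 2 - q + 1) * (q ^ 4 - 1) ≤ (q ^ 2 - q + 1) * 3 := by
      calc (q ^ 2 - q + 1) * (q ^ 4 - 1) = (q ^ 4 - 1) * (q ^ 2 - q + 1) := by ring
        _ ≤ p * 3 := hle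
        _ ≤ _ := Nat.mul_le_mul_right _ hp1
    have h7 := Nat.le_of_mul_le_mul_left h6 (by omega)
    omega

theorem twoVan_E6 {F : Type} [Field F] [Fintype F] {r : ℕ} (hr : r.Prime) [CharP F r]
    [IsSimpleGroup ↥(chevE6.group F)] {p : ℕ} [hp : Fact p.Prime] (h5 : 5 ≤ p) (hpr : p ≠ r)
    (hd : p ^ 2 ∣ Nat.card ↥(chevE6.group F)) : TwoVan p ↥(chevE6.group F) := by
  have := Cfsg.Agent.H53.HC.ExcRows.finite_group (K := F) chevE6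
  obtain ⟨f, hrp, hf⟩ := FiniteField.card F r
  have hf0 : (f : ℕ) ≠ 0 := f.ne_zero
  have D := data_E6_3 hr hf0 hf
  obtain ⟨q, hq⟩ : ∃ q, q = r ^ (f : ℕ) := ⟨_, rfl⟩
  have hFq : Fintype.card F = q := by rw [hf, hq]
  have hq2 : 2 ≤ q := by rw [← hFq]; exact Fintype.one_lt_card
  have e2 : q ^ 2 - 1 = (q - 1) * (q + 1) := by
    have h2 : 1 ≤ q ^ 2 := Nat.one_le_pow _ _ (by omega)
    have h1 : 1 ≤ q := by omega
    zify [h2, h1]; ring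
  have e3 : q ^ 3 - 1 = (q - 1) * (q ^ 2 + q + 1) := by
    have h2 : 1 ≤ q ^ 3 := Nat.one_le_pow _ _ (by omega)
    have h1 : 1 ≤ q := by omega
    zify [h2, h1]; ring
  by_cases hA : p ∣ q - 1 ∨ p ∣ q + 1 ∨ p ∣ q ^ 2 + q + 1
  · refine twoVan_A2_A2 (p := p) (a := 0) (b := 2) (c := 4) (d := 5) (e := f) hr (by norm_num) D (by decide +kernel)
      (by decide +kernel) ?_ rfl hp.out h5 hpr ?_
    · intro i hi j hj
      rcases hi with rfl | rfl <;> rcases hj with rfl | rfl <;> decide +kernel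
    · show p ∣ (r ^ (f : ℕ)) ^ 2 - 1 ∨ p ∣ (r ^ (f : ℕ)) ^ 3 - 1
      rw [← hq, e2, e3]
      rcases hA with h | h | h
      · exact Or.inl (h.mul_right _)
      · exact Or.inl (h.mul_left _)
      · exact Or.inr (h.mul_left _)
  · push Not at hA
    obtain ⟨n1, n2, n3⟩ := hA
    have hDZ : H665.NoPQ.HasDZ p ↥(chevE6.group F) :=
      hasDZ_E6 hr hf0 hf hpr (by rwa [← hq]) (by rwa [← hq]) (by rwa [← hq])
    by_cases h46 : p ∣ q ^ 2 + 1 ∨ p ∣ q ^ 2 - q + 1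
    · obtain ⟨x, hx1, hx2⟩ := elt_46 hFq hp.out h5 h46
      exact twoVan_of_hasDZ_orderOf hDZ hx1 hx2
    · push Not at h46
      obtain ⟨n4, n6⟩ := h46
      have m2 : ¬ p ∣ q ^ 2 - 1 := by rw [e2, hp.out.dvd_mul]; tauto
      have m3 : ¬ p ∣ q ^ 3 - 1 := by rw [e3, hp.out.dvd_mul]; tauto
      have m4 : ¬ p ∣ q ^ 4 - 1 := by
        have e4 : q ^ 4 - 1 = (q ^ 2 - 1) * (q ^ 2 + 1) := by
          have h2 : 1 ≤ q ^ 2 := Nat.one_le_pow _ _ (by omega)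
          have h4 : 1 ≤ q ^ 4 := Nat.one_le_pow _ _ (by omega)
          zify [h2, h4]; ring
        rw [e4, hp.out.dvd_mul]; tauto
      have hcard := Cfsg.Agent.S1063.result hFq
      have h1 : p ^ 2 ∣ q ^ 36 * ((q ^ 2 - 1) * (q ^ 5 - 1) * (q ^ 6 - 1) * (q ^ 8 - 1) * (q ^ 9 - 1) * (q ^ 12 - 1)) := by
        have h2 := hd.mul_left (Nat.gcd 3 (q - 1))
        rw [hcard] at h2
        refine h2.trans (dvd_of_eq ?_)
        ring
      have hpq : ¬ p ∣ q ^ 36 := by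
        intro h
        have h2 := hp.out.dvd_of_dvd_pow h
        rw [hq] at h2
        exact hpr ((Nat.prime_dvd_prime_iff_eq hp.out hr).1 (hp.out.dvd_of_dvd_pow h2))
      have h2 := sq_dvd_of_mul hp.out h1 hpq
      rw [fac_E6 hq2] at h2
      have h3 := sq_dvd_of_mul hp.out h2 (by
        simp only [hp.out.dvd_mul, not_or]
        tauto)
      have hcop : ∀ {a b : ℕ}, p ∣ q ^ a - 1 → p ∣ q ^ b - 1 → p ∣ q ^ Nat.gcd a b - 1 := fun h1 h2 => dvd_gcd_pow h1 h2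
      have k1 : ¬ p ∣ q ^ 1 - 1 := by rwa [pow_one]
      have h4 := sq_dvd_four hp.out h3 (fun h => k1 (hcop (dvd5 hq2 h.1) (dvd8 hq2 h.2)))
        (fun h => k1 (hcop (dvd5 hq2 h.1) (dvd9 hq2 h.2))) (fun h => k1 (hcop (dvd5 hq2 h.1) (dvd12 hq2 h.2)))
        (fun h => k1 (hcop (dvd8 hq2 h.1) (dvd9 hq2 h.2))) (fun h => m4 (hcop (dvd8 hq2 h.1) (dvd12 hq2 h.2)))
        (fun h => m3 (hcop (dvd9 hq2 h.1) (dvd12 hq2 h.2)))
      obtain ⟨V⟩ := Cfsg.Agent.H299.UF.exists_vals hq2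
      have hNq : Nat.card F = q := by rw [Nat.card_eq_fintype_card, hFq]
      rcases h4 with h4 | h4 | h4 | h4
      · obtain ⟨x, hx⟩ := Cfsg.Agent.H299.UF.ex5 hNq V
        refine twoVan_of_sq_dvd hDZ (x := x) ?_
        rw [hx]
        have e : V.a5 = q ^ 4 + q ^ 3 + q ^ 2 + q + 1 := by exact_mod_cast V.h5
        rw [e]; exact h4
      · obtain ⟨x, hx⟩ := Cfsg.Agent.H299.UF.ex8 hNq V
        refine twoVan_of_sq_dvd hDZ (x := x) ?_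
        rw [hx]
        have e : V.a8 = q ^ 4 + 1 := by exact_mod_cast V.h8
        rw [e]; exact h4
      · obtain ⟨x, hx⟩ := Cfsg.Agent.H366.Iso.e6_order9 (F := F)
        refine twoVan_of_sq_dvd hDZ (x := x) ?_
        rw [hx, hNq]
        exact sq_dvd_div hp.out h4 (g_dvd9 hq2) (not_dvd_gcd_three h5)
      · obtain ⟨x, hx⟩ := Cfsg.Agent.H366.Iso.e6_orderC (F := F)
        refine twoVan_of_sq_dvd hDZ (x := x) ?_
        rw [hx, hNq]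
        exact sq_dvd_div hp.out (h4.mul_left _) ((g_dvd3 hq2).mul_right _) (not_dvd_gcd_three h5)

universe u

/-- **The row of `E₆(q)`.** -/
theorem row_E6 {K : Type u} [Group K] [Finite K] [hs : IsSimpleGroup K] {F : Type} [Field F] [Fintype F] {r : ℕ}
    (hr : r.Prime) [CharP F r] (e : K ≃* ↥(chevE6.group F)) {p : ℕ} [hp : Fact p.Prime] (h5 : 5 ≤ p) (hpr : p ≠ r)
    (hd : p ∣ Nat.card K) : H387.VO.Row p K := by
  have := Cfsg.Agent.H53.HC.ExcRows.finite_group (K := F) chevE6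
  have := Cfsg.Agent.H53.HC.ExcIM.simple_congr e hs
  refine H387.VO.Row.mulEquiv ?_ e.symm
  exact row_of_sq (by rwa [← Nat.card_congr e.toEquiv]) fun h => twoVan_E6 hr h5 hpr h

end Cfsg.Agent.H975.VanE
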