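import Cfsg.Agent.H975.VanE.Pair
import Cfsg.Agent.H35.ExcIdxTw

/-!
# The centraliser of `SL₃(q)` in `²E₆(q)` (helper975, rows of S4987)

The relative root system has type `F₄`: nodes `0`, `1` long, `2`, `3` short. The short roots orthogonal to the nodes
`0`, `1` form a system of type `A₂`, conjugate to that of the nodes `2`, `3`.
-/

set_option autoImplicit false
set_option linter.unusedSectionVars false

open Matrix

namespace Cfsg.Agent.H975.VanE

open Cfsg Cfsg.Agent.H387.VO Cfsg.Agent.H620 Cfsg.Agent.H720.PV Cfsg.Agent.H53.HC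
open CoxeterSystem Cfsg.Agent.ChevalleyStructure.CoxeterGeom Cfsg.Agent.Tits.Roots Cfsg.Agent.Tits.Core
  Cfsg.Agent.Nodes.Reps Cfsg.Agent.Nodes.BNOf Cfsg.Agent.Nodes.StabComb Cfsg.Agent.H35.ExcIdx
open Cfsg.Agent.LieRecognition.BNCox (cA)
open Cfsg.Agent.H622.Levi (Co exists_co exists_chain cr)

/-- the reflection -/
def ac (i : Fin 4) (v : Fin 4 → ℤ) : Fin 4 → ℤ := fun j =>
  if j = i then v i - (Nodes.RGDTwE6.A i 0 * v 0 + Nodes.RGDTwE6.A i 1 * v 1 + Nodes.RGDTwE6.A i 2 * v 2 +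
    Nodes.RGDTwE6.A i 3 * v 3) else v j

/-- the action of a word -/
def acL (L : List (Fin 4)) (v : Fin 4 → ℤ) : Fin 4 → ℤ := L.foldr ac v

theorem rep_simple_ac (i : Fin 4) (v : Fin 4 → ℤ) :
    rep CoxeterMatrix.F₄.toCoxeterSystem Nodes.RGDTwE6.isCartan (CoxeterMatrix.F₄.toCoxeterSystem.simple i) v = ac i v := by
  funext j
  unfold ac
  by_cases hj : j = i
  · subst hj
    rw [rep_simple_apply_self, if_pos rfl]
    unfold pairing
    rw [Fin.sum_univ_four]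
  · rw [rep_simple_apply _ _ _ _ _ hj, if_neg hj]

variable {r q : ℕ} {f : Fin 4 → ℕ} {S : Type*} [Group S] {T : Subgroup S} {n : Fin 4 → S}
  {X : (Fin 4 → ℤ) → Subgroup S}

theorem cj_word (R : RGD CoxeterMatrix.F₄.toCoxeterSystem Nodes.RGDTwE6.isCartan r T n X) (L : List (Fin 4))
    {x : Fin 4 → ℤ} (hx : IsRoot CoxeterMatrix.F₄.toCoxeterSystem Nodes.RGDTwE6.isCartan x) :
    IsRoot CoxeterMatrix.F₄.toCoxeterSystem Nodes.RGDTwE6.isCartan (acL L x) ∧
      cj (L.map n).prod (X x) = X (acL L x) := by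
  induction L with
  | nil => exact ⟨hx, by rw [List.map_nil, List.prod_nil, cj_one]; rfl⟩
  | cons i L ih =>
    obtain ⟨h1, h2⟩ := ih
    have e : acL (i :: L) x = ac i (acL L x) := rfl
    refine ⟨?_, ?_⟩
    · rw [e, ← rep_simple_ac]; exact h1.act _
    · rw [List.map_cons, List.prod_cons, cj_mul, h2, R.conj i _ h1, rep_simple_ac, e]

/-- vectors supported on the nodes `0`, `1` -/
theorem mem_roots01 {x : Fin 4 → ℤ} :
    x ∈ RootsJ CoxeterMatrix.F₄.toCoxeterSystem Nodes.RGDTwE6.isCartan ({0, 1} : Set (Fin 4)) ↔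
      IsRoot CoxeterMatrix.F₄.toCoxeterSystem Nodes.RGDTwE6.isCartan x ∧ x = ![x 0, x 1, 0, 0] := by
  constructor
  · rintro ⟨h1, h2⟩
    refine ⟨h1, ?_⟩
    funext j
    fin_cases j
    · rfl
    · rfl
    · exact h2 2 (by simp)
    · exact h2 3 (by simp)
  · rintro ⟨h1, h2⟩
    refine ⟨h1, fun k hk => ?_⟩
    rw [h2]
    fin_cases k
    · exact absurd (by simp) hk
    · exact absurd (by simp) hk
    · rfl
    · rfl

/-- the root groups of the roots `w (± α₃)`, `w` swapping the nodes `0`, `1` -/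
theorem comm_word (R : RGD CoxeterMatrix.F₄.toCoxeterSystem Nodes.RGDTwE6.isCartan r T n X)
    (hc : ∀ a ∈ MJ CoxeterMatrix.F₄.toCoxeterSystem Nodes.RGDTwE6.isCartan X ({0, 1} : Set (Fin 4)),
      ∀ b ∈ MJ CoxeterMatrix.F₄.toCoxeterSystem Nodes.RGDTwE6.isCartan X ({3} : Set (Fin 4)), a * b = b * a)
    {L : List (Fin 4)} (hL : ∀ a b : ℤ, acL L ![a, b, 0, 0] = ![b, a, 0, 0]) {y : Fin 4 → ℤ}
    (hy : y = sr 3 ∨ y = -sr 3) {z : Fin 4 → ℤ} (hz : acL L y = z) :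
    X z ≤ Subgroup.centralizer
      (MJ CoxeterMatrix.F₄.toCoxeterSystem Nodes.RGDTwE6.isCartan X ({0, 1} : Set (Fin 4)) : Set S) := by
  subst hz
  have hyr : IsRoot CoxeterMatrix.F₄.toCoxeterSystem Nodes.RGDTwE6.isCartan y := by
    rcases hy with rfl | rfl
    · exact isRoot_sr _ _ _
    · exact (isRoot_sr _ _ _).neg
  have hyJ : y ∈ RootsJ CoxeterMatrix.F₄.toCoxeterSystem Nodes.RGDTwE6.isCartan ({3} : Set (Fin 4)) := by
    refine ⟨hyr, fun k hk => ?_⟩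
    have hk' : k ≠ 3 := hk
    rcases hy with rfl | rfl
    · exact sr_ne hk'
    · rw [Pi.neg_apply, sr_ne hk', neg_zero]
  rw [Subgroup.le_centralizer_iff]
  refine RGD.Sup_le fun x hx => ?_
  obtain ⟨hxr, hx0⟩ := mem_roots01.1 hx
  have hx' : acL L x = ![x 1, x 0, 0, 0] := by
    conv_lhs => rw [hx0]
    exact hL _ _
  have hx'' : acL L (acL L x) = x := by
    rw [hx', hL]
    exact hx0.symm
  obtain ⟨g1, g2⟩ := cj_word R L hxr
  have hJ : acL L x ∈ RootsJ CoxeterMatrix.F₄.toCoxeterSystem Nodes.RGDTwE6.isCartan ({0, 1} : Set (Fin 4)) := by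
    refine mem_roots01.2 ⟨g1, ?_⟩
    rw [hx']
    rfl
  obtain ⟨-, g3⟩ := cj_word R L g1
  rw [hx''] at g3
  obtain ⟨-, g4⟩ := cj_word R L hyr
  intro a ha
  rw [Subgroup.mem_centralizer_iff]
  intro b hb
  have ha' : a ∈ X x := ha
  have hb' : b ∈ X (acL L y) := hb
  rw [← g3, mem_cj] at ha'
  rw [← g4, mem_cj] at hb'
  have h1 := hc _ (RGD.le_Sup hJ ha') _ (RGD.le_Sup hyJ hb')
  obtain ⟨g, hg⟩ : ∃ g, g = (L.map n).prod := ⟨_, rfl⟩
  rw [← hg] at h1
  have h2 : g * (g⁻¹ * a * g * (g⁻¹ * b * g)) * g⁻¹ = g * (g⁻¹ * b * g * (g⁻¹ * a * g)) * g⁻¹ := by rw [h1]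
  have e1 : g * (g⁻¹ * a * g * (g⁻¹ * b * g)) * g⁻¹ = a * b := by group
  have e2 : g * (g⁻¹ * b * g * (g⁻¹ * a * g)) * g⁻¹ = b * a := by group
  rw [e1, e2] at h2
  exact h2.symm

/-- the words -/
def Lv : List (Fin 4) := [2, 1, 2, 0, 1, 2]
/-- the words -/
def Lv' : List (Fin 4) := [3, 2, 1, 2, 0, 1, 2]
/-- the words -/
def Lw : List (Fin 4) := [2, 1, 2, 3, 2, 1, 2, 0, 1]

theorem hLv (a b : ℤ) : acL Lv ![a, b, 0, 0] = ![b, a, 0, 0] := by
  funext j
  fin_cases j <;> simp [acL, Lv, ac, Nodes.RGDTwE6.A] <;> ring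

theorem hLv' (a b : ℤ) : acL Lv' ![a, b, 0, 0] = ![b, a, 0, 0] := by
  have e : acL Lv' ![a, b, 0, 0] = ac 3 (acL Lv ![a, b, 0, 0]) := rfl
  rw [e, hLv]
  funext j
  fin_cases j <;> simp [ac, Nodes.RGDTwE6.A]

theorem cr_vec {k : Fin 2 → Fin 4} (h0 : k 0 = 2) (h1 : k 1 = 3) (a b : Fin 3) :
    cr k a b = ![0, 0, (if a.val ≤ 0 then 1 else 0) - (if b.val ≤ 0 then 1 else 0),
      (if a.val ≤ 1 then 1 else 0) - (if b.val ≤ 1 then 1 else 0)] := by
  unfold cr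
  rw [Cfsg.Agent.Nodes.SubComb.iota_apply, Fin.sum_univ_two, h0, h1]
  rw [Cfsg.Agent.Nodes.RootsA.rtA_apply, Cfsg.Agent.Nodes.RootsA.rtA_apply]
  funext j
  fin_cases j <;> simp [sr] <;> split_ifs <;> simp

/-- **A conjugate of the group of the nodes `2`, `3` centralises the group of the nodes `0`, `1`.** -/
theorem exists_conj [Finite S] {J : Set (Fin 4)} (D : ExcData r q Nodes.RGDTwE6.isCartan f J T n X) {F : Type}
    [Field F] {φ : SpecialLinearGroup (Fin 3) F →* S} {k : Fin 2 ↪ Fin 4} (h0 : k 0 = 2) (h1 : k 1 = 3)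
    (hk : ∀ i j, CoxeterMatrix.F₄ (k i) (k j) = cA 2 i j) (C : Co X k F φ) :
    ∃ g : S, ∀ s, g * φ s * g⁻¹ ∈ Subgroup.centralizer
      (MJ CoxeterMatrix.F₄.toCoxeterSystem Nodes.RGDTwE6.isCartan X ({0, 1} : Set (Fin 4)) : Set S) := by
  have := D.fin
  have ho : Orth Nodes.RGDTwE6.A ({0, 1} : Set (Fin 4)) ({3} : Set (Fin 4)) :=
    orth_of Nodes.RGDTwE6.isCartan fun i hi j hj => ExcRows.or4 i (by
      rcases hi with rfl | rfl <;> simp) j (by simpa using hj)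
  have hc := ho.comm D.rgd
  refine ⟨(Lw.map n).prod, fun s => ?_⟩
  refine Cfsg.Agent.LieClassical.SLGen.transvection_induction (fun s => (Lw.map n).prod * φ s * (Lw.map n).prod⁻¹ ∈
    Subgroup.centralizer (MJ CoxeterMatrix.F₄.toCoxeterSystem Nodes.RGDTwE6.isCartan X
      ({0, 1} : Set (Fin 4)) : Set S)) ?_ ?_ s
  · intro a b hab t
    have h2 := C.transvection_mem hab t
    have hr := ((Cfsg.Agent.H622.Levi.mem_rootsJ (cs := CoxeterMatrix.F₄.toCoxeterSystem)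
      (h := Nodes.RGDTwE6.isCartan) hk).2 ⟨a, b, hab, rfl⟩).1
    obtain ⟨-, h3⟩ := cj_word D.rgd Lw hr
    have h4 : (Lw.map n).prod * φ (SpecialLinearGroup.transvection hab t) * (Lw.map n).prod⁻¹ ∈ X (acL Lw (cr k a b)) := by
      rw [← h3]
      exact conj_mem_cj.2 h2
    refine (show X (acL Lw (cr k a b)) ≤ _ from ?_) h4
    rw [cr_vec h0 h1]
    have key3 : ∀ {y z : Fin 4 → ℤ}, (y = sr 3 ∨ y = -sr 3) → y = z → X z ≤ Subgroup.centralizer
        (MJ CoxeterMatrix.F₄.toCoxeterSystem Nodes.RGDTwE6.isCartan X ({0, 1} : Set (Fin 4)) : Set S) := by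
      rintro y _ hy rfl
      have hyr : IsRoot CoxeterMatrix.F₄.toCoxeterSystem Nodes.RGDTwE6.isCartan y := by
        rcases hy with rfl | rfl
        · exact isRoot_sr _ _ _
        · exact (isRoot_sr _ _ _).neg
      have hyJ : y ∈ RootsJ CoxeterMatrix.F₄.toCoxeterSystem Nodes.RGDTwE6.isCartan ({3} : Set (Fin 4)) := by
        refine ⟨hyr, fun k hk => ?_⟩
        have hk' : k ≠ 3 := hk
        rcases hy with rfl | rfl
        · exact sr_ne hk'
        · rw [Pi.neg_apply, sr_ne hk', neg_zero]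
      intro b hb
      rw [Subgroup.mem_centralizer_iff]
      intro a ha
      exact hc a ha b (RGD.le_Sup hyJ hb)
    fin_cases a <;> fin_cases b
    · exact absurd rfl hab
    · exact comm_word D.rgd hc hLv (Or.inl rfl) (by decide)
    · exact comm_word D.rgd hc hLv' (Or.inl rfl) (by decide)
    · exact comm_word D.rgd hc hLv (Or.inr rfl) (by decide)
    · exact absurd rfl hab
    · exact key3 (Or.inl rfl) (by decide)
    · exact comm_word D.rgd hc hLv' (Or.inr rfl) (by decide)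
    · exact key3 (Or.inr rfl) (by decide)
    · exact absurd rfl hab
  · intro g g' h2 h3
    rw [map_mul]
    have e : (Lw.map n).prod * (φ g * φ g') * (Lw.map n).prod⁻¹ =
        (Lw.map n).prod * φ g * (Lw.map n).prod⁻¹ * ((Lw.map n).prod * φ g' * (Lw.map n).prod⁻¹) := by group
    rw [e]
    exact mul_mem h2 h3

/-- **`SL₃(q)` and its centraliser.** -/
theorem twoVan_A2_cent [Finite S] [IsSimpleGroup S] (hr : r.Prime) {J : Set (Fin 4)}
    (D : ExcData r q Nodes.RGDTwE6.isCartan f J T n X) {e : ℕ} (hf : f 2 = r ^ e)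
    {p : ℕ} (hp : p.Prime) (h5 : 5 ≤ p) (hpr : p ≠ r) (hd : p ∣ f 0 ^ 2 - 1 ∨ p ∣ f 0 ^ 3 - 1) : TwoVan p S := by
  have := D.fin
  have : Fact r.Prime := ⟨hr⟩
  obtain ⟨F, _, _, φ, -, -, -, -, hker, hF, hφ⟩ := exists_A2 D (a := 0) (b := 1) (by decide +kernel)
  obtain ⟨k, h0, h1, hK, hk⟩ := exists_chain (M := CoxeterMatrix.F₄) (k₀ := 2) (k₁ := 3) (by decide +kernel)
  obtain ⟨F', _, _, φ', C⟩ := exists_co D.rgd le_rfl k hk
  have hF' : Fintype.card F' = r ^ e := by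
    rw [← Nat.card_eq_fintype_card, ← C.card 0, D.size, h0, hf]
  have := charP_of_card hr hF'
  obtain ⟨x, hx⟩ := exists_sl3 hF hp h5 hd hker
  obtain ⟨y, z, hy, hz⟩ := exists_two (r := r) C.ker
  obtain ⟨g, hg⟩ := exists_conj D h0 h1 hk C
  have hc : ∀ s, Commute (φ x) (g * φ' s * g⁻¹) := fun s => by
    exact (Subgroup.mem_centralizer_iff.1 (hg s) _ (hφ x))
  have ho : ∀ s, orderOf (g * φ' s * g⁻¹) = orderOf (φ' s) := fun s => by
    have h1 : g * φ' s * g⁻¹ = MulAut.conj g (φ' s) := rfl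
    rw [h1, MulEquiv.orderOf_eq]
  exact twoVan_of_pair hr hp h5 hpr (kill_of_data hr (by norm_num) D) hx ((ho y).trans hy) ((ho z).trans hz)
    (hc y) (hc z)

end Cfsg.Agent.H975.VanE
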