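import Cfsg.Agent.H975.VanE.RowE6
import Cfsg.Agent.H975.VanE.Tw
import Cfsg.Agent.H366.IsoE6T
import Cfsg.Agent.H234.UF.TwE6Row

/-!
# The row of `²E₆(q)` (helper975, S4987)
-/

set_option autoImplicit false

namespace Cfsg.Agent.H975.VanE

open Cfsg Cfsg.Agent.H387.VO Cfsg.Agent.H620 Cfsg.Agent.H720.PV Cfsg.Agent.H35.ExcIdx

/-- cyclotomic factors -/
theorem fac_TwE6 {q : ℕ} (hq : 2 ≤ q) :
    (q ^ 2 - 1) * (q ^ 5 + 1) * (q ^ 6 - 1) * (q ^ 8 - 1) * (q ^ 9 + 1) * (q ^ 12 - 1) =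
      ((q ^ 2 - 1) * (q + 1) * (q ^ 3 - 1) * (q + 1) * (q ^ 2 - q + 1) * (q ^ 2 - 1) * (q ^ 2 + 1) * (q + 1) *
        (q ^ 2 - q + 1) * (q ^ 3 - 1) * (q + 1) * (q ^ 2 - q + 1) * (q ^ 2 + 1)) *
      ((q ^ 4 - q ^ 3 + q ^ 2 - q + 1) * (q ^ 4 + 1) * (q ^ 6 - q ^ 3 + 1) * (q ^ 4 - q ^ 2 + 1)) := by
  have h2 : 1 ≤ q ^ 2 := Nat.one_le_pow _ _ (by omega)
  have h3 : 1 ≤ q ^ 3 := Nat.one_le_pow _ _ (by omega)
  have h6 : 1 ≤ q ^ 6 := Nat.one_le_pow _ _ (by omega)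
  have h8 : 1 ≤ q ^ 8 := Nat.one_le_pow _ _ (by omega)
  have h12 : 1 ≤ q ^ 12 := Nat.one_le_pow _ _ (by omega)
  have h24 : q ^ 2 ≤ q ^ 4 := Nat.pow_le_pow_right (by omega) (by norm_num)
  have h34 : q ^ 3 ≤ q ^ 4 := Nat.pow_le_pow_right (by omega) (by norm_num)
  have h36 : q ^ 3 ≤ q ^ 6 := Nat.pow_le_pow_right (by omega) (by norm_num)
  have h21 : q ≤ q ^ 2 := Nat.le_self_pow (by norm_num) _
  have h5 : q ≤ q ^ 4 - q ^ 3 + q ^ 2 := by omega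
  zify [h2, h3, h6, h8, h12, h24, h34, h36, h21, h5]
  ring

theorem dvd10 {p q : ℕ} (hq : 2 ≤ q) (h : p ∣ q ^ 4 - q ^ 3 + q ^ 2 - q + 1) : p ∣ q ^ 5 + 1 := by
  have e : q ^ 5 + 1 = (q ^ 4 - q ^ 3 + q ^ 2 - q + 1) * (q + 1) := by
    have h34 : q ^ 3 ≤ q ^ 4 := Nat.pow_le_pow_right (by omega) (by norm_num)
    have h21 : q ≤ q ^ 2 := Nat.le_self_pow (by norm_num) _
    have h5 : q ≤ q ^ 4 - q ^ 3 + q ^ 2 := by omega
    zify [h34, h5]; ring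
  rw [e]; exact h.mul_right _

theorem dvd10' {p q : ℕ} (hq : 2 ≤ q) (h : p ∣ q ^ 5 + 1) : p ∣ q ^ 10 - 1 := by
  have e : q ^ 10 - 1 = (q ^ 5 + 1) * (q ^ 5 - 1) := by
    have h1 : 1 ≤ q ^ 5 := Nat.one_le_pow _ _ (by omega)
    have h5 : 1 ≤ q ^ 10 := Nat.one_le_pow _ _ (by omega)
    zify [h1, h5]; ring
  rw [e]; exact h.mul_right _

theorem dvd18 {p q : ℕ} (hq : 2 ≤ q) (h : p ∣ q ^ 6 - q ^ 3 + 1) : p ∣ q ^ 18 - 1 := by
  have e : q ^ 18 - 1 = (q ^ 6 - q ^ 3 + 1) * ((q ^ 3 + 1) * (q ^ 9 - 1)) := by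
    have h1 : 1 ≤ q ^ 9 := Nat.one_le_pow _ _ (by omega)
    have h5 : 1 ≤ q ^ 18 := Nat.one_le_pow _ _ (by omega)
    have h36 : q ^ 3 ≤ q ^ 6 := Nat.pow_le_pow_right (by omega) (by norm_num)
    zify [h1, h5, h36]; ring
  rw [e]; exact h.mul_right _

theorem gcd_cases {q : ℕ} (hq : 2 ≤ q) : Nat.gcd 3 (q + 1) = 1 ∨ (Nat.gcd 3 (q + 1) = 3 ∧ ∃ k, q = 3 * k + 2) := by
  rcases (Nat.dvd_prime Nat.prime_three).1 (Nat.gcd_dvd_left 3 (q + 1)) with h1 | h1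
  · exact Or.inl h1
  · right
    refine ⟨h1, ?_⟩
    have h2 : 3 ∣ q + 1 := by rw [← h1]; exact Nat.gcd_dvd_right _ _
    obtain ⟨k, hk⟩ := h2
    exact ⟨k - 1, by omega⟩

theorem g'_dvd18 {q : ℕ} (hq : 2 ≤ q) : Nat.gcd 3 (q + 1) ∣ q ^ 6 - q ^ 3 + 1 := by
  rcases gcd_cases hq with h | ⟨h, k, rfl⟩
  · rw [h]; exact one_dvd _
  · rw [h]
    have h36 : (3 * k + 2) ^ 3 ≤ (3 * k + 2) ^ 6 := Nat.pow_le_pow_right (by omega) (by norm_num)
    have h1 : (3 : ℤ) ∣ (((3 * k + 2) ^ 6 - (3 * k + 2) ^ 3 + 1 : ℕ) : ℤ) := by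
      push_cast [Nat.cast_sub h36]
      exact ⟨243 * k ^ 6 + 972 * k ^ 5 + 1620 * k ^ 4 + 1431 * k ^ 3 + 702 * k ^ 2 + 180 * k + 19, by ring⟩
    exact_mod_cast h1

theorem g'_dvd6 {q : ℕ} (hq : 2 ≤ q) : Nat.gcd 3 (q + 1) ∣ q ^ 2 - q + 1 := by
  rcases gcd_cases hq with h | ⟨h, k, rfl⟩
  · rw [h]; exact one_dvd _
  · rw [h]
    have h36 : (3 * k + 2) ≤ (3 * k + 2) ^ 2 := Nat.le_self_pow (by norm_num) _
    have h1 : (3 : ℤ) ∣ (((3 * k + 2) ^ 2 - (3 * k + 2) + 1 : ℕ) : ℤ) := by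
      push_cast [Nat.cast_sub h36]
      exact ⟨3 * k ^ 2 + 3 * k + 1, by ring⟩
    exact_mod_cast h1

theorem g'_dvd10 {q : ℕ} : Nat.gcd 3 (q + 1) ∣ q ^ 5 + 1 := by
  refine (Nat.gcd_dvd_right 3 (q + 1)).trans ?_
  have h := Odd.nat_add_dvd_pow_add_pow q 1 (show Odd 5 by decide)
  rwa [one_pow] at h

theorem g'_dvd2 {q : ℕ} (hq : 2 ≤ q) : Nat.gcd 3 (q + 1) ∣ q ^ 2 - 1 := by
  refine (Nat.gcd_dvd_right 3 (q + 1)).trans ?_
  have e2 : q ^ 2 - 1 = (q - 1) * (q + 1) := by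
    have h2 : 1 ≤ q ^ 2 := Nat.one_le_pow _ _ (by omega)
    have h1 : 1 ≤ q := by omega
    zify [h2, h1]; ring
  rw [e2]; exact Dvd.intro_left _ rfl

open Cfsg.Lie

theorem finite_TwE6 (K : Type) [Field K] [Fintype K] (q : ℕ) : Finite ↥(twistedE6 K q) := by
  have : Finite (GL chevE6.Idx K) := by
    have : Finite (Matrix chevE6.Idx chevE6.Idx K) := inferInstance
    infer_instance
  infer_instance

theorem twoVan_TwE6 {K : Type} [Field K] [Fintype K] {q : ℕ} (hpq : IsPrimePow q) (hK : Fintype.card K = q ^ 2)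
    {r : ℕ} (hr : r.Prime) [CharP K r] [IsSimpleGroup ↥(twistedE6 K q)] {p : ℕ} [hp : Fact p.Prime] (h5 : 5 ≤ p)
    (hpr : p ≠ r) (hd : p ^ 2 ∣ Nat.card ↥(twistedE6 K q)) : TwoVan p ↥(twistedE6 K q) := by
  have := finite_TwE6 K q
  have hq2 : 2 ≤ q := hpq.two_le
  obtain ⟨r', f, hr', hf, hqf⟩ := (isPrimePow_nat_iff q).1 hpq
  have hrr : r' = r := by
    obtain ⟨g, hrp, hg⟩ := FiniteField.card K r
    have h2 : r' ∣ r ^ (g : ℕ) := by
      rw [← hg, hK]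
      have h3 : r' ∣ q := by rw [← hqf]; exact dvd_pow_self _ hf.ne'
      exact h3.trans (dvd_pow_self q two_ne_zero)
    exact (Nat.prime_dvd_prime_iff_eq hr' hr).1 (hr'.dvd_of_dvd_pow h2)
  subst hrr
  have hf0 : f ≠ 0 := hf.ne'
  obtain ⟨φ, hφ, hqq⟩ := Cfsg.Agent.ChevalleyStructure.TwE6Basic.exists_frob hpq hK
  have D := data_TwE6_2 hr hf0 hqf.symm hφ hqq hK
  have e2 : q ^ 2 - 1 = (q - 1) * (q + 1) := by
    have h2 : 1 ≤ q ^ 2 := Nat.one_le_pow _ _ (by omega)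
    have h1 : 1 ≤ q := by omega
    zify [h2, h1]; ring
  have e3 : q ^ 3 - 1 = (q - 1) * (q ^ 2 + q + 1) := by
    have h2 : 1 ≤ q ^ 3 := Nat.one_le_pow _ _ (by omega)
    have h1 : 1 ≤ q := by omega
    zify [h2, h1]; ring
  have e4 : q ^ 4 - 1 = (q ^ 2 - 1) * (q ^ 2 + 1) := by
    have h2 : 1 ≤ q ^ 2 := Nat.one_le_pow _ _ (by omega)
    have h4 : 1 ≤ q ^ 4 := Nat.one_le_pow _ _ (by omega)
    zify [h2, h4]; ring
  by_cases hA : p ∣ q - 1 ∨ p ∣ q + 1 ∨ p ∣ q ^ 2 + q + 1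
  · refine twoVan_A2_cent (p := p) (e := f * 2) hr D ?_ hp.out h5 hpr ?_
    · show q ^ 2 = r' ^ (f * 2)
      rw [pow_mul, hqf]
    · show p ∣ q ^ 2 - 1 ∨ p ∣ q ^ 3 - 1
      rw [e2, e3]
      rcases hA with h | h | h
      · exact Or.inl (h.mul_right _)
      · exact Or.inl (h.mul_left _)
      · exact Or.inr (h.mul_left _)
  · push Not at hA
    obtain ⟨n1, n2, n3⟩ := hA
    by_cases hA4 : p ∣ q ^ 2 + 1
    · refine twoVan_A1_A2 (p := p) (a := 3) (b := 2) (c := 0) (d := 1) (e := f) hr (by norm_num) D (by decide +kernel)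
        (by decide +kernel) ?_ ?_ hp.out h5 hpr ?_
      · intro i hi j hj
        rcases hi with rfl
        rcases hj with rfl | rfl <;> decide +kernel
      · show q = r' ^ f
        exact hqf.symm
      · show p ∣ (q ^ 2) ^ 2 - 1
        rw [← pow_mul, e4]
        exact hA4.mul_left _
    · have hDZ : H665.NoPQ.HasDZ p ↥(twistedE6 K q) :=
        hasDZ_TwE6 hr hf0 hqf.symm hφ hqq hK hpr n1 n2 n3 hA4
      have hg := not_dvd_gcd_three (m := q + 1) h5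
      by_cases h6 : p ∣ q ^ 2 - q + 1
      · obtain ⟨x, hx⟩ := Cfsg.Agent.H366.Iso.e6t_orderC hpq hK
        refine twoVan_of_hasDZ_orderOf hDZ (x := x) ?_ ?_
        · rw [hx]
          exact dvd_div' hp.out (h6.mul_right _) ((g'_dvd6 hq2).mul_right _) hg
        · rw [hx]
          intro h
          have h1 : (q ^ 2 - q + 1) * (q ^ 4 - q ^ 2 + 1) = p * Nat.gcd 3 (q + 1) := by
            rw [← h]
            exact (Nat.div_mul_cancel ((g'_dvd6 hq2).mul_right _)).symm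
          have h2 : Nat.gcd 3 (q + 1) ≤ 3 := Nat.le_of_dvd (by norm_num) (Nat.gcd_dvd_left _ _)
          have h3 : p ≤ q ^ 2 - q + 1 := Nat.le_of_dvd (by omega) h6
          have h4 : (q ^ 2 - q + 1) * (q ^ 4 - q ^ 2 + 1) ≤ (q ^ 2 - q + 1) * 3 := by
            rw [h1]
            exact Nat.mul_le_mul h3 h2
          have h5 := Nat.le_of_mul_le_mul_left h4 (by omega)
          have q2 : 4 ≤ q ^ 2 := by nlinarith
          have q4 : q ^ 4 = q ^ 2 * q ^ 2 := by ring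
          have q5 : q ^ 2 * 4 ≤ q ^ 4 := by rw [q4]; exact Nat.mul_le_mul_left _ q2
          omega
      · have m2 : ¬ p ∣ q ^ 2 - 1 := by rw [e2, hp.out.dvd_mul]; tauto
        have m3 : ¬ p ∣ q ^ 3 - 1 := by rw [e3, hp.out.dvd_mul]; tauto
        have m4 : ¬ p ∣ q ^ 4 - 1 := by rw [e4, hp.out.dvd_mul]; tauto
        have m6 : ¬ p ∣ q ^ 6 - 1 := by
          have e6 : q ^ 6 - 1 = (q ^ 3 - 1) * ((q + 1) * (q ^ 2 - q + 1)) := by
            have h3 : 1 ≤ q ^ 3 := Nat.one_le_pow _ _ (by omega)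
            have h6 : 1 ≤ q ^ 6 := Nat.one_le_pow _ _ (by omega)
            have h21 : q ≤ q ^ 2 := Nat.le_self_pow (by norm_num) _
            zify [h3, h6, h21]; ring
          rw [e6, hp.out.dvd_mul, hp.out.dvd_mul]; tauto
        have hcard := Cfsg.Agent.S1066.result hpq hK
        have h1 : p ^ 2 ∣ q ^ 36 * ((q ^ 2 - 1) * (q ^ 5 + 1) * (q ^ 6 - 1) * (q ^ 8 - 1) * (q ^ 9 + 1) * (q ^ 12 - 1)) := by
          have h2 := hd.mul_left (Nat.gcd 3 (q + 1))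
          rw [hcard] at h2
          refine h2.trans (dvd_of_eq ?_)
          ring
        have hpq' : ¬ p ∣ q ^ 36 := by
          intro h
          have h2 := hp.out.dvd_of_dvd_pow h
          rw [← hqf] at h2
          exact hpr ((Nat.prime_dvd_prime_iff_eq hp.out hr).1 (hp.out.dvd_of_dvd_pow h2))
        have h2 := sq_dvd_of_mul hp.out h1 hpq'
        rw [fac_TwE6 hq2] at h2
        have h3 := sq_dvd_of_mul hp.out h2 (by
          simp only [hp.out.dvd_mul, not_or]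
          tauto)
        have hcop : ∀ {a b : ℕ}, p ∣ q ^ a - 1 → p ∣ q ^ b - 1 → p ∣ q ^ Nat.gcd a b - 1 := fun h1 h2 => dvd_gcd_pow h1 h2
        have t10 := fun h => dvd10' (p := p) hq2 (dvd10 hq2 h)
        have h4 := sq_dvd_four hp.out h3 (fun h => m2 (hcop (t10 h.1) (dvd8 hq2 h.2)))
          (fun h => m2 (hcop (t10 h.1) (dvd18 hq2 h.2))) (fun h => m2 (hcop (t10 h.1) (dvd12 hq2 h.2)))
          (fun h => m2 (hcop (dvd8 hq2 h.1) (dvd18 hq2 h.2))) (fun h => m4 (hcop (dvd8 hq2 h.1) (dvd12 hq2 h.2)))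
          (fun h => m6 (hcop (dvd18 hq2 h.1) (dvd12 hq2 h.2)))
        rcases h4 with h4 | h4 | h4 | h4
        · obtain ⟨x, hx⟩ := Cfsg.Agent.H366.Iso.e6t_orderA hpq hK
          refine twoVan_of_sq_dvd hDZ (x := x) ?_
          rw [hx]
          exact sq_dvd_div hp.out ((dvd10 hq2 h4).mul_right _) (g'_dvd10.mul_right _) hg
        · obtain ⟨x, hx⟩ := Cfsg.Agent.H234.UF.TwE6.ex8 hpq hK
          refine twoVan_of_sq_dvd hDZ (x := x) ?_
          rw [hx]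
          exact sq_dvd_div hp.out (h4.mul_right _) ((g'_dvd2 hq2).mul_left _) hg
        · obtain ⟨x, hx⟩ := Cfsg.Agent.H366.Iso.e6t_order18 hpq hK
          refine twoVan_of_sq_dvd hDZ (x := x) ?_
          rw [hx]
          exact sq_dvd_div hp.out h4 (g'_dvd18 hq2) hg
        · obtain ⟨x, hx⟩ := Cfsg.Agent.H366.Iso.e6t_orderC hpq hK
          refine twoVan_of_sq_dvd hDZ (x := x) ?_
          rw [hx]
          exact sq_dvd_div hp.out (h4.mul_left _) ((g'_dvd6 hq2).mul_right _) hg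

universe u

/-- **The row of `²E₆(q)`.** -/
theorem row_TwE6 {G : Type u} [Group G] [Finite G] [hs : IsSimpleGroup G] {K : Type} [Field K] [Fintype K] {q : ℕ}
    (hpq : IsPrimePow q) (hK : Fintype.card K = q ^ 2) {r : ℕ} (hr : r.Prime) [CharP K r]
    (e : G ≃* ↥(twistedE6 K q)) {p : ℕ} [hp : Fact p.Prime] (h5 : 5 ≤ p) (hpr : p ≠ r)
    (hd : p ∣ Nat.card G) : H387.VO.Row p G := by
  have := finite_TwE6 K q
  have := Cfsg.Agent.H53.HC.ExcIM.simple_congr e hs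
  refine H387.VO.Row.mulEquiv ?_ e.symm
  exact row_of_sq (by rwa [← Nat.card_congr e.toEquiv]) fun h => twoVan_TwE6 hpq hK hr h5 hpr h

end Cfsg.Agent.H975.VanE
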