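import Cfsg.Agent.H53.HC.ExcIM
import Cfsg.Agent.H720.PV.Tools

/-!
# Characters of defect zero of `E₆(q)` and `²E₆(q)` (helper975, rows of S4987)

* `irr_of_one`, `irr_of_two` : irreducible characters of degree divisible by the index of a maximal parabolic subgroup;
* `hasDZ_of_index` : characters of defect zero;
* `hasDZ_E6`, `hasDZ_TwE6`.
-/

set_option autoImplicit false
set_option linter.unusedSectionVars false

open scoped ComplexConjugate
open Cfsg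

namespace Cfsg.Agent.H975.VanE

open Cfsg.Agent.H53.HC
open CoxeterSystem Cfsg.Agent.ChevalleyStructure.CoxeterGeom Cfsg.Agent.Tits.Roots Cfsg.Agent.Tits.Core
  Cfsg.Agent.Tits.Exchange Cfsg.Agent.Nodes.Reps Cfsg.Agent.Nodes.BNOf Cfsg.Agent.Nodes.StabComb
  Cfsg.Agent.Nodes.Bruhat Cfsg.Agent.Nodes.OppDec Cfsg.Agent.Nodes.LeviDec Cfsg.Agent.H35.ExcIdx

section gen

variable {r q l : ℕ} {M : CoxeterMatrix (Fin l)} {A : Fin l → Fin l → ℤ} {h : IsCartan M A} {f : Fin l → ℕ}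
  {S : Type*} [Group S] {T : Subgroup S} {n : Fin l → S} {X : (Fin l → ℤ) → Subgroup S}

/-- **`F₄(q)`, `²E₆(q)`, `E₇(q)`, `E₈(q)`.** -/
theorem irr_of_one [Finite S] {j k₀ k₁ : Fin l} {K' : Set (Fin l)}
    (D : ExcData r q h f {i | i ≠ j} T n X) (hJ : ({i | i ≠ j} : Set (Fin l)) = {k₀, k₁} ∪ K')
    (ho : ∀ i ∈ ({k₀, k₁} : Set (Fin l)), ∀ i' ∈ K', M i i' = 2) (hk : M k₀ k₁ = 3) (hk1 : M k₁ j = 2)
    (hk0 : M k₀ j = 3 ∨ M k₀ j = 4)
    (hun : ∀ a b, a ≠ j → b ≠ j → M a b = 3 → (∀ c, c ≠ j → c ≠ a → c ≠ b → M a c = 2 ∧ M b c = 2) →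
      (a = k₀ ∧ b = k₁) ∨ (a = k₁ ∧ b = k₀))
    (hA2 : InA2 h X q k₀ k₁) (hK' : In h X K') :
    ∃ χ : S → ℂ, IsIrrCharacter S χ ∧ ∃ N : ℕ, χ 1 = N ∧ (PJ M.toCoxeterSystem h T X {i | i ≠ j}).index ∣ N := by
  classical
  have := D.fin
  have : Fintype S := Fintype.ofFinite S
  obtain ⟨θ, hθ, hns, d, t, hd, -, -⟩ := hA2
  obtain ⟨θ', hθ'⟩ := hK'
  have hmem : ∀ i, i ∈ ({i | i ≠ j} : Set (Fin l)) ↔ i ≠ j := fun i => Iff.rfl
  have hk0J : k₀ ∈ ({i | i ≠ j} : Set (Fin l)) := by rw [hJ]; simp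
  have hk1J : k₁ ∈ ({i | i ≠ j} : Set (Fin l)) := by rw [hJ]; simp
  obtain ⟨χ, hχ, k, hk0', hχ1⟩ := exists_irr_one D.rgd D.gg hmem hJ (orth_of h ho) rfl
    (isoPair_of h hk0J hk1J hk fun c hc hc0 hc1 => by
      rw [hJ] at hc
      rcases hc with hc | hc
      · rcases hc with rfl | rfl
        · exact absurd rfl hc0
        · exact absurd rfl hc1
      · exact ⟨ho _ (by simp) c hc, ho _ (by simp) c hc⟩)
    (cartan_two h hk1).1 (not_three_dvd h hk0)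
    (fun a b hab => by
      obtain ⟨h1, h2, h3, h4⟩ := of_isoPair h hab
      exact hun a b h1 h2 h3 h4)
    hθ hns hθ'
  obtain ⟨e, -, he⟩ := Cfsg.Agent.Characters.Core.isIrr_apply_one hθ'.irr
  refine ⟨χ, hχ, (PJ M.toCoxeterSystem h T X {i | i ≠ j}).index * (k * (d * e)), ?_, Dvd.intro _ rfl⟩
  rw [hχ1, hd, he]; push_cast; ring

/-- **`E₆(q)`.** -/
theorem irr_of_two [Finite S] {j k₀ k₁ l₀ l₁ : Fin l} {N : Set (Fin l)}
    (D : ExcData r q h f {i | i ≠ j} T n X) (hJ : ({i | i ≠ j} : Set (Fin l)) = {k₀, k₁} ∪ ({l₀, l₁} ∪ N))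
    (hoK : ∀ i ∈ ({k₀, k₁} : Set (Fin l)), ∀ i' ∈ ({l₀, l₁} ∪ N : Set (Fin l)), M i i' = 2)
    (hoL : ∀ i ∈ ({l₀, l₁} : Set (Fin l)), ∀ i' ∈ N, M i i' = 2)
    (hk : M k₀ k₁ = 3) (hk1 : M k₁ j = 2) (hk0 : M k₀ j = 3) (hl : M l₀ l₁ = 3) (hl1 : M l₁ j = 2) (hl0 : M l₀ j = 3)
    (hun : ∀ a b, a ≠ j → b ≠ j → M a b = 3 → (∀ c, c ≠ j → c ≠ a → c ≠ b → M a c = 2 ∧ M b c = 2) →
      (a = k₀ ∧ b = k₁) ∨ (a = k₁ ∧ b = k₀) ∨ (a = l₀ ∧ b = l₁) ∨ (a = l₁ ∧ b = l₀))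
    (hA2 : InA2 h X q k₀ k₁)
    (hL : ∃ α α' : ↥(MJ M.toCoxeterSystem h X {l₀, l₁}) → ℂ, Cusp M.toCoxeterSystem h X {l₀, l₁} α ∧
      Cusp M.toCoxeterSystem h X {l₀, l₁} α' ∧
      ∀ t (ht : t ∈ T), α' ≠ α ∘ conjME (MJ M.toCoxeterSystem h X {l₀, l₁}) (T_le_normalizer_MJ D.rgd {l₀, l₁} ht))
    (hN : In h X N) :
    ∃ χ : S → ℂ, IsIrrCharacter S χ ∧ ∃ N : ℕ, χ 1 = N ∧ (PJ M.toCoxeterSystem h T X {i | i ≠ j}).index ∣ N := by
  classical
  have := D.fin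
  have : Fintype S := Fintype.ofFinite S
  obtain ⟨θ, hθ, hns, d, t, hd, -, -⟩ := hA2
  obtain ⟨α, α', hα, hα', hne⟩ := hL
  obtain ⟨β, hβ⟩ := hN
  have hmem : ∀ i, i ∈ ({i | i ≠ j} : Set (Fin l)) ↔ i ≠ j := fun i => Iff.rfl
  have hk0J : k₀ ∈ ({i | i ≠ j} : Set (Fin l)) := by rw [hJ]; simp
  have hk1J : k₁ ∈ ({i | i ≠ j} : Set (Fin l)) := by rw [hJ]; simp
  have hl0J : l₀ ∈ ({i | i ≠ j} : Set (Fin l)) := by rw [hJ]; simp
  have hl1J : l₁ ∈ ({i | i ≠ j} : Set (Fin l)) := by rw [hJ]; simp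
  obtain ⟨χ, hχ, k, hk0', hχ1⟩ := exists_irr_two D.rgd D.gg hmem hJ (orth_of h hoK) (orth_of h hoL) rfl rfl
    (isoPair_of h hk0J hk1J hk fun c hc hc0 hc1 => by
      rw [hJ] at hc
      rcases hc with hc | hc
      · rcases hc with rfl | rfl
        · exact absurd rfl hc0
        · exact absurd rfl hc1
      · exact ⟨hoK _ (by simp) c hc, hoK _ (by simp) c hc⟩)
    (isoPair_of h hl0J hl1J hl fun c hc hc0 hc1 => by
      rw [hJ] at hc
      rcases hc with hc | hc | hc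
      · have e1 := hoK c hc l₀ (by simp)
        have e2 := hoK c hc l₁ (by simp)
        rw [M.symmetric] at e1 e2
        exact ⟨e1, e2⟩
      · rcases hc with rfl | rfl
        · exact absurd rfl hc0
        · exact absurd rfl hc1
      · exact ⟨hoL _ (by simp) c hc, hoL _ (by simp) c hc⟩)
    (cartan_two h hk1).1 (cartan_two h hl1).1 (not_three_dvd h (Or.inl hk0))
    ((cartan_three h hl0).1.trans (cartan_three h hk0).1.symm)
    (fun a b hab => by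
      obtain ⟨h1, h2, h3, h4⟩ := of_isoPair h hab
      exact hun a b h1 h2 h3 h4)
    hθ hns hα hα' hne hβ
  refine ⟨χ, hχ, (PJ M.toCoxeterSystem h T X {i | i ≠ j}).index * (k * d), ?_, Dvd.intro _ rfl⟩
  rw [hχ1, hd]; push_cast; ring

end gen

/-- **Characters of defect zero.** -/
theorem hasDZ_of_index {S : Type*} [Group S] [Finite S] {p r : ℕ} [hp : Fact p.Prime] (hr : r.Prime) (hpr : p ≠ r)
    {idx N t d b P : ℕ} (h1 : idx * N * t = P) (h2 : d * Nat.card S = r ^ b * P) (hN : ¬ p ∣ N) (ht : ¬ p ∣ t)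
    (h : ∃ χ : S → ℂ, IsIrrCharacter S χ ∧ ∃ n : ℕ, χ 1 = n ∧ idx ∣ n) :
    H665.NoPQ.HasDZ p S := by
  obtain ⟨χ, hχ, n, hn, hd⟩ := h
  refine H720.PV.hasDZ_of_degree hχ hn (dvd_trans ?_ hd)
  have h3 : p ^ (Nat.card S).factorization p ∣ r ^ b * (idx * N * t) := by
    rw [h1, ← h2]
    exact (Nat.ordProj_dvd _ _).mul_left _
  have c1 : (p ^ (Nat.card S).factorization p).Coprime (r ^ b) :=
    Nat.Coprime.pow _ _ ((Nat.coprime_primes hp.out hr).2 hpr)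
  have c2 : (p ^ (Nat.card S).factorization p).Coprime N :=
    Nat.Coprime.pow_left _ ((Nat.Prime.coprime_iff_not_dvd hp.out).2 hN)
  have c3 : (p ^ (Nat.card S).factorization p).Coprime t :=
    Nat.Coprime.pow_left _ ((Nat.Prime.coprime_iff_not_dvd hp.out).2 ht)
  exact c2.dvd_of_dvd_mul_right (c3.dvd_of_dvd_mul_right (c1.dvd_of_dvd_mul_left h3))

universe u

section split

open Cfsg.Agent.H53.HC.ExcRows Cfsg.Lie Cfsg.Agent.Nodes.RGDChev Cfsg.Agent.H35.Poin Cfsg.Agent.H35.PoinNum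
  Cfsg.Agent.H53.HC.ExcIM

variable {K : Type u} [Field K] [Fintype K] {r f : ℕ} (hr : r.Prime) (hf : f ≠ 0)
  (hK : Fintype.card K = r ^ f) [CharP K r]

include hr hf hK in
/-- **`E₆(q)`**: characters of `p`-defect zero for `p` not dividing `q (q² - 1) (q² + q + 1)`. -/
theorem hasDZ_E6 {p : ℕ} [hp : Fact p.Prime] (hpr : p ≠ r) (h1 : ¬ p ∣ r ^ f - 1) (h2 : ¬ p ∣ r ^ f + 1)
    (h3 : ¬ p ∣ (r ^ f) ^ 2 + r ^ f + 1) : H665.NoPQ.HasDZ p ↥(chevE6.group K) := by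
  have := finite_group (K := K) chevE6
  have D := data_E6_3 hr hf hK
  have hfin := D.fin
  have hirr := irr_of_two D (N := {1}) compl6 (fun i hi i' hi' => or6a i (by simpa using hi) i' (by simpa using hi'))
    (fun i hi i' hi' => or6b i (by simpa using hi) i' (by simpa using hi')) (by decide +kernel) (by decide +kernel)
    (by decide +kernel) (by decide +kernel) (by decide +kernel) (by decide +kernel) un6
    (in_A2 D (by decide +kernel) rfl) (in_pair D (by decide +kernel)) (in_node D 1 3 (by decide +kernel))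
  have hcs := Cfsg.Agent.S1063.result hK
  have hS : ∃ b, Nat.gcd 3 (r ^ f - 1) * Nat.card (chevE6.group K) = r ^ b * pr (r ^ f) [2, 5, 6, 8, 9, 12] := by
    refine ⟨f * 36, ?_⟩
    rw [pow_mul]
    simp only [pr_cons, pr_nil]
    rw [hcs]
    ring
  have hJ : ({j | j ≠ 3} : Set (Fin 6)) = {j | j ∈ ([0, 1, 2, 4, 5] : List (Fin 6))} := by
    ext j; revert j; decide
  have hidx := index_split hpE6 K hr hf hK CoxeterMatrix.E₆.toCoxeterSystem (J := {j | j ≠ 3})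
    (d := Nat.gcd 3 (r ^ f - 1)) (N := FA 2 (r ^ f) * (FA 1 (r ^ f) * (FA 2 (r ^ f) * 1)))
    (P := pr (r ^ f) [2, 5, 6, 8, 9, 12]) (not_dvd_of_dvd hr hf (Nat.gcd_dvd_right _ _))
    (by rw [← hK]; exact Cfsg.Agent.S1035.result rfl (chevE6, Nat.gcd 3 (Fintype.card K - 1)) (by simp)) hS
    (not_dvd_pr hr hf _ (by simp)) (by
      rw [hJ]
      exact card_step D.rgd path_E6_3_0 (fun i _ => D.size i) (card_step D.rgd path_E6_3_1 (fun i _ => D.size i)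
        (card_step D.rgd path_E6_3_2 (fun i _ => D.size i) (card_nil D.rgd))))
  obtain ⟨b, hb⟩ := hS
  have e1 : FA 1 (r ^ f) = r ^ f + 1 := by
    simp only [FA, Finset.prod_range_succ, Finset.prod_range_zero, Finset.sum_range_succ, Finset.sum_range_zero]
    ring
  have e2 : FA 2 (r ^ f) = (r ^ f + 1) * ((r ^ f) ^ 2 + r ^ f + 1) := by
    simp only [FA, Finset.prod_range_succ, Finset.prod_range_zero, Finset.sum_range_succ, Finset.sum_range_zero]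
    ring
  refine hasDZ_of_index hr hpr hidx hb ?_ ?_ hirr
  · rw [e1, e2, mul_one]
    simp only [hp.out.dvd_mul, not_or]
    exact ⟨⟨h2, h3⟩, h2, h2, h3⟩
  · intro h4
    exact h1 (hp.out.dvd_of_dvd_pow h4)

end split

section tw

open Cfsg.Agent.H53.HC.ExcRows Cfsg.Lie Cfsg.Agent.Nodes.RGDChev Cfsg.Agent.H35.Poin Cfsg.Agent.H35.PoinNum
  Cfsg.Agent.H53.HC.ExcIM Cfsg.Agent

variable {K : Type u} [Field K] [Fintype K] {q : ℕ} {φ : K →+* K}
  {r f : ℕ} (hr : r.Prime) (hf : f ≠ 0) (hq : q = r ^ f) [CharP K r]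
  (hφ : ∀ x, φ x = x ^ q) (hqq : ∀ t : K, (t ^ q) ^ q = t) (hK : Fintype.card K = q ^ 2)

include hr hf hq hqq hK hφ in
/-- **`²E₆(q)`**: characters of `p`-defect zero for `p` not dividing `q (q⁴ - 1) (q² + q + 1)`. -/
theorem hasDZ_TwE6 {p : ℕ} [hp : Fact p.Prime] (hpr : p ≠ r) (h1 : ¬ p ∣ q - 1) (h2 : ¬ p ∣ q + 1)
    (h3 : ¬ p ∣ q ^ 2 + q + 1) (h4 : ¬ p ∣ q ^ 2 + 1) : H665.NoPQ.HasDZ p ↥(twistedE6 K q) := by
  have hfinY : Finite ↥(twistedE6 K q) := by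
    have : Finite (GL chevE6.Idx K) := by
      have : Finite (Matrix chevE6.Idx chevE6.Idx K) := inferInstance
      infer_instance
    infer_instance
  have : Fact r.Prime := ⟨hr⟩
  have D := data_TwE6_2 hr hf hq hφ hqq hK
  have hfin := D.fin
  have h2q : 2 ≤ q := by rw [hq]; exact two_le hr hf
  have hpp : IsPrimePow q := by rw [hq]; exact hr.isPrimePow.pow hf
  have hirr := irr_of_one D (K' := {3}) compl4 (fun i hi i' hi' => or4 i (by simpa using hi) i' (by simpa using hi'))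
    (by decide +kernel) (by decide +kernel) (by decide +kernel) un4 (in_A2 D (by decide +kernel) rfl)
    (in_node D 3 2 (by decide +kernel))
  have hP : ¬ r ∣ PT q := by
    intro h3
    have h4 : r ∣ pr q [2, 6, 8, 10, 12, 18] := by
      rw [← PT_mul (by omega)]; exact Dvd.dvd.mul_right h3 _
    rw [hq] at h4
    exact not_dvd_pr hr hf _ (by simp) h4
  have hT : Nat.gcd 3 (q + 1) * Nat.card ↥(Nodes.RGDTwE6.T K q) = (q - 1) ^ 4 * (q + 1) ^ 2 := by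
    rw [← Cfsg.Agent.S1102.result hpp hK]
    congr 1
    exact Nat.card_congr (Subgroup.subgroupOfEquivOfLe (inf_le_right)).toEquiv
  have hd : ¬ r ∣ Nat.gcd 3 (q + 1) := by
    intro h3
    have h4 : r ∣ q + 1 := h3.trans (Nat.gcd_dvd_right _ _)
    have h5 : r ∣ q := by rw [hq]; exact dvd_pow_self r hf
    exact hr.one_lt.ne' (Nat.dvd_one.1 ((Nat.dvd_add_right h5).1 h4))
  have hS : Nat.gcd 3 (q + 1) * Nat.card ↥(twistedE6 K q) = r ^ (f * 36) * PT q := by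
    rw [Cfsg.Agent.S1066.result hpp hK, pow_mul, ← hq]
    unfold PT
    ring
  have hJ : ({j | j ≠ 2} : Set (Fin 4)) = {j | j ∈ ([0, 1, 3] : List (Fin 4))} := by
    ext j; revert j; decide
  have hidx := index_eq D.rgd D.gg (J := {j | j ≠ 2}) (N := FA 2 q * (FA 1 (q ^ 2) * 1)) (by
    rw [hJ]
    refine card_step D.rgd path_T_0 (fun i hi => ?_) (card_step D.rgd path_T_1 (fun i hi => ?_) (card_nil D.rgd))
    · rw [D.size]; revert i; simp [fE]
    · rw [D.size]; revert i; simp [fE]) hd hT hS hP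
  have e1 : FA 1 (q ^ 2) = q ^ 2 + 1 := by
    simp only [FA, Finset.prod_range_succ, Finset.prod_range_zero, Finset.sum_range_succ, Finset.sum_range_zero]
    ring
  have e2 : FA 2 q = (q + 1) * (q ^ 2 + q + 1) := by
    simp only [FA, Finset.prod_range_succ, Finset.prod_range_zero, Finset.sum_range_succ, Finset.sum_range_zero]
    ring
  refine hasDZ_of_index hr hpr hidx hS ?_ ?_ hirr
  · rw [e1, e2, mul_one]
    simp only [hp.out.dvd_mul, not_or]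
    exact ⟨⟨h2, h3⟩, h4⟩
  · intro h5
    rcases hp.out.dvd_mul.1 h5 with h6 | h6
    · exact h1 (hp.out.dvd_of_dvd_pow h6)
    · exact h2 (hp.out.dvd_of_dvd_pow h6)

end tw

end Cfsg.Agent.H975.VanE
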