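import Cfsg.Agent.H720.PV.Tools
import Cfsg.Agent.H622.Levi.NonSwap
import Cfsg.Agent.S0242

/-!
# Commuting subgroups `SL₃`, `SL₂` (helper975, rows of S4987)

* `orderOf_image` : images of elements of prime order under homomorphisms with central kernel;
* `exists_sl3`, `exists_sl2` : elements of prime order of `SL₃`, `SL₂`;
* `exists_two` : elements of orders `r`, `2 r` in the image of `SL₃`;
* `exists_two'` : the same for `SL₂`, `r` odd;
* `twoVan_of_pair` : elements of orders `p r`, `2 p r`.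
-/

set_option autoImplicit false

open Matrix
open scoped commutatorElement

namespace Cfsg.Agent.H975.VanE

open Cfsg Cfsg.Agent.H387.VO Cfsg.Agent.H620 Cfsg.Agent.H720.PV
open Cfsg.Agent.TitsThree.KSideA (tv tv_of_ne tv_add tv_zero tv_neg tv_comm)

/-- **The pair.** -/
theorem twoVan_of_pair {Y : Type*} [Group Y] {p r : ℕ} (hr : r.Prime) (hp : p.Prime) (h5 : 5 ≤ p) (hpr : p ≠ r)
    (h : Kill Y r) {x y z : Y} (hx : orderOf x = p) (hy : orderOf y = r) (hz : orderOf z = 2 * r)
    (hxy : Commute x y) (hxz : Commute x z) : TwoVan p Y := by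
  have hc : p.Coprime r := (Nat.coprime_primes hp hr).2 hpr
  have h2 : p.Coprime (2 * r) :=
    Nat.Coprime.mul_right ((Nat.coprime_primes hp Nat.prime_two).2 (by omega)) hc
  have e1 : orderOf (x * y) = p * r := by
    rw [hxy.orderOf_mul_eq_mul_orderOf_of_coprime (by rw [hx, hy]; exact hc), hx, hy]
  have e2 : orderOf (x * z) = p * (2 * r) := by
    rw [hxz.orderOf_mul_eq_mul_orderOf_of_coprime (by rw [hx, hz]; exact h2), hx, hz]
  refine twoVan_of_kill (p := p) (r := r) h (x := x * y) (y := x * z) ?_ ?_ ?_ ?_ ?_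
  · rw [e1]; exact Dvd.intro _ rfl
  · rw [e1]; exact Dvd.intro_left _ rfl
  · rw [e2]; exact Dvd.intro _ rfl
  · rw [e2]; exact ⟨p * 2, by ring⟩
  · rw [e1, e2]
    intro h3
    have h4 := Nat.eq_of_mul_eq_mul_left hp.pos h3
    have := hr.pos
    omega

section

variable {Y : Type*} [Group Y] {F : Type} [Field F]

/-- central elements of `SL_n` -/
theorem pow_of_center {n : ℕ} {g : SpecialLinearGroup (Fin n) F}
    (hg : g ∈ Subgroup.center (SpecialLinearGroup (Fin n) F)) : g ^ n = 1 := by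
  obtain ⟨c, hc, hg⟩ := Matrix.SpecialLinearGroup.mem_center_iff.1 hg
  apply Subtype.ext
  rw [Fintype.card_fin] at hc
  change (g : Matrix (Fin n) (Fin n) F) ^ n = 1
  rw [← hg, ← map_pow, hc, map_one]

/-- images of elements of prime order -/
theorem orderOf_image {n p : ℕ} (hp : p.Prime) (hn : 0 < n) (hnp : n < p) {φ : SpecialLinearGroup (Fin n) F →* Y}
    (hker : φ.ker ≤ Subgroup.center (SpecialLinearGroup (Fin n) F)) {x : SpecialLinearGroup (Fin n) F}
    (hx : orderOf x = p) : orderOf (φ x) = p := by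
  have := Fact.mk hp
  refine orderOf_eq_prime ?_ ?_
  · rw [← map_pow, ← hx, pow_orderOf_eq_one, map_one]
  · intro h
    have h1 := pow_of_center (hker (show x ∈ φ.ker from h))
    have h2 := orderOf_dvd_of_pow_eq_one h1
    rw [hx] at h2
    exact absurd (Nat.le_of_dvd hn h2) (by omega)

theorem card_sl3 [Fintype F] {q : ℕ} (hF : Fintype.card F = q) :
    Nat.card (SpecialLinearGroup (Fin 3) F) = (q ^ 3 - 1) * ((q ^ 3 - q) * q ^ 2) := by
  have h := Cfsg.Agent.S0242.result hF 3 (by omega)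
  have hq : 1 < q := by rw [← hF]; exact Fintype.one_lt_card
  have e : q ^ 3 - q ^ 2 = (q - 1) * q ^ 2 := by
    rw [Nat.sub_mul, one_mul, pow_succ' q 2]
  rw [Fin.prod_univ_three] at h
  simp only [Fin.val_zero, Fin.val_one, Fin.val_two, pow_zero, pow_one] at h
  rw [e] at h
  have h1 : (q - 1) * Nat.card (SpecialLinearGroup (Fin 3) F) = (q - 1) * ((q ^ 3 - 1) * ((q ^ 3 - q) * q ^ 2)) := by
    rw [h]; ring
  exact Nat.eq_of_mul_eq_mul_left (by omega) h1

theorem card_sl2 [Fintype F] {q : ℕ} (hF : Fintype.card F = q) :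
    Nat.card (SpecialLinearGroup (Fin 2) F) = (q ^ 2 - 1) * q := by
  have h := Cfsg.Agent.S0242.result hF 2 (by omega)
  have hq : 1 < q := by rw [← hF]; exact Fintype.one_lt_card
  have e : q ^ 2 - q = (q - 1) * q := by
    rw [Nat.sub_mul, one_mul, sq]
  rw [Fin.prod_univ_two] at h
  simp only [Fin.val_zero, Fin.val_one, pow_zero, pow_one] at h
  rw [e] at h
  have h1 : (q - 1) * Nat.card (SpecialLinearGroup (Fin 2) F) = (q - 1) * ((q ^ 2 - 1) * q) := by
    rw [h]; ring
  exact Nat.eq_of_mul_eq_mul_left (by omega) h1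

/-- elements of prime order of `SL₃` -/
theorem exists_sl3 [Fintype F] {q p : ℕ} (hF : Fintype.card F = q) (hp : p.Prime) (h5 : 5 ≤ p)
    (h : p ∣ q ^ 2 - 1 ∨ p ∣ q ^ 3 - 1) {φ : SpecialLinearGroup (Fin 3) F →* Y}
    (hker : φ.ker ≤ Subgroup.center (SpecialLinearGroup (Fin 3) F)) :
    ∃ x : SpecialLinearGroup (Fin 3) F, orderOf (φ x) = p := by
  have := Fact.mk hp
  have hq : 1 < q := by rw [← hF]; exact Fintype.one_lt_card
  have h1 : p ∣ Nat.card (SpecialLinearGroup (Fin 3) F) := by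
    rw [card_sl3 hF]
    rcases h with h | h
    · have e : q ^ 3 - q = (q ^ 2 - 1) * q := by rw [Nat.sub_mul, one_mul, ← pow_succ]
      rw [e]
      exact Dvd.dvd.mul_left (Dvd.dvd.mul_right (Dvd.dvd.mul_right h _) _) _
    · exact Dvd.dvd.mul_right h _
  have hfin : Finite (SpecialLinearGroup (Fin 3) F) := inferInstance
  obtain ⟨x, hx⟩ := exists_prime_orderOf_dvd_card' (G := SpecialLinearGroup (Fin 3) F) p h1
  exact ⟨x, orderOf_image hp (by norm_num) (by omega) hker hx⟩

/-- elements of prime order of `SL₂` -/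
theorem exists_sl2 [Fintype F] {q p : ℕ} (hF : Fintype.card F = q) (hp : p.Prime) (h5 : 5 ≤ p)
    (h : p ∣ q ^ 2 - 1) {φ : SpecialLinearGroup (Fin 2) F →* Y}
    (hker : φ.ker ≤ Subgroup.center (SpecialLinearGroup (Fin 2) F)) :
    ∃ x : SpecialLinearGroup (Fin 2) F, orderOf (φ x) = p := by
  have := Fact.mk hp
  have h1 : p ∣ Nat.card (SpecialLinearGroup (Fin 2) F) := by
    rw [card_sl2 hF]
    exact Dvd.dvd.mul_right h _
  have hfin : Finite (SpecialLinearGroup (Fin 2) F) := inferInstance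
  obtain ⟨x, hx⟩ := exists_prime_orderOf_dvd_card' (G := SpecialLinearGroup (Fin 2) F) p h1
  exact ⟨x, orderOf_image hp (by norm_num) (by omega) hker hx⟩

/-- the matrix `diag(-1, -1, 1)` -/
def sg (F : Type) [Field F] : SpecialLinearGroup (Fin 3) F :=
  ⟨Matrix.diagonal ![-1, -1, 1], by rw [det_diagonal, Fin.prod_univ_three]; simp⟩

theorem sg_sq : sg F ^ 2 = 1 := by
  apply Subtype.ext
  change (Matrix.diagonal ![-1, -1, 1] : Matrix (Fin 3) (Fin 3) F) ^ 2 = 1
  rw [sq, diagonal_mul_diagonal, ← diagonal_one]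
  congr 1
  funext i
  fin_cases i <;> simp

open Cfsg.Agent.H622.Levi in
/-- **Elements of orders `r` and `2 r`.** -/
theorem exists_two {r : ℕ} [hr : Fact r.Prime] [CharP F r] {φ : SpecialLinearGroup (Fin 3) F →* Y}
    (hker : φ.ker ≤ Subgroup.center (SpecialLinearGroup (Fin 3) F)) :
    ∃ y z : SpecialLinearGroup (Fin 3) F, orderOf (φ y) = r ∧ orderOf (φ z) = 2 * r := by
  have hne01 : (0 : Fin 3) ≠ 1 := by decide
  have hne12 : (1 : Fin 3) ≠ 2 := by decide
  have hne02 : (0 : Fin 3) ≠ 2 := by decide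
  have hpow : ∀ {a b : Fin 3} (m : ℕ), (tv a b (1 : F)) ^ m = tv a b (m : F) := by
    intro a b m
    induction m with
    | zero => rw [pow_zero, Nat.cast_zero, tv_zero]
    | succ m ih => rw [pow_succ, ih, ← tv_add, Nat.cast_succ]
  have hord : ∀ {a b : Fin 3}, a ≠ b → orderOf (φ (tv a b (1 : F))) = r := by
    intro a b hab
    refine orderOf_eq_prime ?_ ?_
    · rw [← map_pow, hpow, CharP.cast_eq_zero, tv_zero, map_one]
    · intro h
      have h1 : (fun t : F => φ (tv a b t)) 1 = (fun t : F => φ (tv a b t)) 0 := by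
        show φ (tv a b 1) = φ (tv a b 0)
        rw [h, tv_zero, map_one]
      exact one_ne_zero (tv_injective hker hab h1)
  refine ⟨tv 0 1 1, ?_⟩
  rcases hr.out.eq_two_or_odd' with h2 | hodd
  · subst h2
    refine ⟨tv 0 1 1 * tv 1 2 1, hord hne01, ?_⟩
    have hsq : ∀ {a b : Fin 3}, tv a b (1 : F) = (tv a b (1 : F))⁻¹ := by
      intro a b
      rw [← tv_neg, CharTwo.neg_eq]
    have h1 : (tv (0 : Fin 3) 1 (1 : F) * tv 1 2 (1 : F)) ^ 2 = tv 0 2 (1 : F) := by
      have h3 := tv_comm hne01 hne12 hne02 (1 : F) 1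
      rw [mul_one, commutatorElement_def, ← hsq, ← hsq] at h3
      rw [← h3, sq]
      group
    have h4 : orderOf (φ (tv (0 : Fin 3) 1 (1 : F) * tv 1 2 (1 : F))) = 2 ^ (1 + 1) := by
      refine orderOf_eq_prime_pow ?_ ?_
      · rw [pow_one, ← map_pow, h1]
        intro h5
        have h6 := hord hne02
        rw [h5, orderOf_one] at h6
        norm_num at h6
      · have e : 2 ^ (1 + 1) = 2 * 2 := by norm_num
        rw [e, pow_mul, ← map_pow, h1, ← map_pow, hpow]
        have h7 : ((2 : ℕ) : F) = 0 := CharP.cast_eq_zero F 2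
        rw [h7, tv_zero, map_one]
    rw [h4]; norm_num
  · have hr2 : r ≠ 2 := by rintro rfl; exact absurd hodd (by decide)
    have hneg : (-1 : F) ≠ 1 := by
      intro h
      have h3 : ((2 : ℕ) : F) = 0 := by
        have : (1 : F) + 1 = 0 := by
          nth_rewrite 1 [← h]
          exact neg_add_cancel 1
        push_cast
        rw [← this]; norm_num
      exact hr2 ((Nat.prime_dvd_prime_iff_eq hr.out Nat.prime_two).1 ((CharP.cast_eq_zero_iff F r 2).1 h3))
    refine ⟨sg F * tv 0 1 1, hord hne01, ?_⟩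
    have hval : ∀ {a b : Fin 3} (hab : a ≠ b) (s : F), (tv a b s : SpecialLinearGroup (Fin 3) F).1 =
        1 + Matrix.single a b s := fun hab s => val_tv hab s
    have hcomm : Commute (sg F) (tv 0 1 (1 : F)) := by
      apply Subtype.ext
      change (Matrix.diagonal ![-1, -1, 1] : Matrix (Fin 3) (Fin 3) F) * (tv 0 1 (1 : F)).1 =
        (tv 0 1 (1 : F)).1 * Matrix.diagonal ![-1, -1, 1]
      rw [hval hne01]
      ext i j
      rw [diagonal_mul, mul_diagonal]
      fin_cases i <;> fin_cases j <;> simp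
    have h2 : orderOf (φ (sg F)) = 2 := by
      refine orderOf_eq_prime ?_ ?_
      · rw [← map_pow, sg_sq, map_one]
      · intro h
        have h3 := hker (show sg F ∈ φ.ker from h)
        have h4 := Subgroup.mem_center_iff.1 h3 (tv 1 2 (1 : F))
        have h5 := congrFun (congrFun (congrArg Subtype.val h4) 1) 2
        change (((tv 1 2 (1 : F)).1 : Matrix (Fin 3) (Fin 3) F) *
          (Matrix.diagonal ![-1, -1, 1] : Matrix (Fin 3) (Fin 3) F) : Matrix (Fin 3) (Fin 3) F) 1 2 =
          ((Matrix.diagonal ![-1, -1, 1] : Matrix (Fin 3) (Fin 3) F) * ((tv 1 2 (1 : F)).1 :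
            Matrix (Fin 3) (Fin 3) F)) 1 2 at h5
        rw [hval hne12, diagonal_mul, mul_diagonal] at h5
        simp at h5
        exact hneg h5.symm
    rw [map_mul]
    have hc : Commute (φ (sg F)) (φ (tv 0 1 (1 : F))) := hcomm.map φ
    rw [hc.orderOf_mul_eq_mul_orderOf_of_coprime (by
      rw [h2, hord hne01]; exact (Nat.coprime_primes Nat.prime_two hr.out).2 hr2.symm), h2, hord hne01]

end

end Cfsg.Agent.H975.VanE
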